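import Cfsg.Agent.H15.Degree.Cases
import Cfsg.Agent.H14.Deg16.Blocks

/-!
Small primes (helper85): the principal block at five in the presence of a faithful character of
degree three.
-/

set_option autoImplicit false
set_option linter.style.haveILetI false
set_option linter.unusedSectionVars false

open Cfsg
open scoped ComplexConjugate

namespace H85.SmallPrime

open H85.D1 H15.HalfDeg H15.Degree

universe u

variable {G : Type u} [Group G] [Fintype G] {p : ℕ} [hp : Fact p.Prime]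
  {P : Sylow p G} {u a : G} {H : Subgroup G} [Fintype H] [Fintype (P : Subgroup G)]
  {D : Setting P u a H} [Fintype (D.aut (H12.oneIrr H))]
  {χ : IrrCharacter G} {θ : IrrCharacter H} {ψ : (P : Subgroup G) →* ℂˣ}
  (h : Neg D 2 3 χ θ ψ) (hft : 2 * 2 + 1 = p) {M : Ideal AlgInt} [M.IsPrime] (hM : IsPModular p M)
include h hft hM

/-- The degrees in the principal block are `1, 4, 3, 3` or `1, 9, 8, 8`. -/
theorem block_cases (hno2 : ∀ i : IrrCharacter G, H12.degree (i : G → ℂ) ≠ 2)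
    (hgen : Subgroup.closure {g : G | g ^ p = 1} = ⊤) :
    ∃ (Φ : Fam D 2 2 ψ (H12.oneIrr H)) (b : IrrCharacter G), b ∈ D.supp (H12.oneIrr H) ∧
      Φ.δ = -1 ∧ (∀ x : (P : Subgroup G), x ≠ 1 → (b : G → ℂ) x = -1) ∧
      (∀ g : G, ¬ p ∣ orderOf g → (Φ.Y 1 : G → ℂ) g = (b : G → ℂ) g - 1) ∧
      (∀ g : G, ∃ k : ℤ, (b : G → ℂ) g = (k : ℂ)) ∧
      ((H12.degree (b : G → ℂ) = 4 ∧ H12.degree (Φ.Y 1 : G → ℂ) = 3) ∨
       (H12.degree (b : G → ℂ) = 9 ∧ H12.degree (Φ.Y 1 : G → ℂ) = 8 ∧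
          ∀ g : G, ¬ p ∣ orderOf g → g ∉ H →
            ∃ k : ℤ, 0 ≤ k ∧ k ≤ 8 ∧ (b : G → ℂ) g = (k : ℂ))) := by
  classical
  have hp5 : p = 5 := by omega
  have hpZ : (p : ℤ) = 5 := by exact_mod_cast hp5
  obtain ⟨Φ⟩ := h.exists_fam hft hM (H12.oneIrr H)
  obtain ⟨Θ, hΘδ, hΘ⟩ := exists_theta_two h hft hM
  have hΘd : H12.degree (Θ.Y 1 : G → ℂ) = 3 := by rw [hΘ, h.degree_eq]
  have hF := prods_self h hft hM Θ hΘδ hΘd
  obtain ⟨k₁, k₂, s, e₁, e₂, hX, hY, -, -, -⟩ := split_facts h hft hM Φ hF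
  have hl1 := one_mem_lab (p := p) hft
  have hlm := neg_one_mem (p := p) hft
  set u₁ : (P : Subgroup G) := ⟨u, D.u_mem⟩ with hu₁
  have hu : u₁ ≠ 1 := fun h' => D.u_ne_one (congrArg Subtype.val h')
  have hdone : H12.degree (H12.oneIrr G : G → ℂ) = 1 := by
    have h1 := H12.irr_apply_one (H12.oneIrr G)
    rw [H12.oneIrr_apply] at h1
    exact_mod_cast h1.symm
  have honesupp : H12.oneIrr G ∈ D.supp (H12.oneIrr H) :=
    ⟨u₁, hu, by simp [Setting.col, H12.oneIrr_apply]⟩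
  have honeX : H12.oneIrr G ∈ Φ.X := by
    rcases (Φ.mem_supp _).1 honesupp with h1 | ⟨A, hA, he⟩
    · exact h1
    exfalso
    obtain ⟨s', -, hs'⟩ := Fam.degree_Y h hft Φ hA
    rw [he, hdone, hpZ] at hs'
    rcases Φ.δ_eq with hδ | hδ <;> rw [hδ] at hs' <;> push_cast at hs' <;> omega
  have hεone : Φ.εX (H12.oneIrr G) = 1 := by
    have h1 := Fam.valX' h hft Φ honeX u₁ hu
    rw [H12.oneIrr_apply] at h1
    exact_mod_cast h1.symm
  obtain ⟨b, hbX, hbne⟩ := Finset.exists_mem_ne (by rw [Φ.card_X]; norm_num : 1 < Φ.X.card)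
    (H12.oneIrr G)
  have hXeq : Φ.X = {H12.oneIrr G, b} := by
    refine (Finset.eq_of_subset_of_card_le (fun i hi => ?_) ?_).symm
    · rcases Finset.mem_insert.1 hi with rfl | hi
      · exact honeX
      · rw [Finset.mem_singleton.1 hi]; exact hbX
    · rw [Φ.card_X, Finset.card_pair hbne.symm]
  set d := H12.degree (b : G → ℂ) with hd
  set m := H12.degree (Φ.Y 1 : G → ℂ) with hm
  have hrel : Φ.δ * (m : ℤ) = 1 + Φ.εX b * (d : ℤ) := by
    rw [hm, Fam.degree_rel h hft Φ, hXeq, Finset.sum_pair hbne.symm, hdone, hεone, Nat.cast_one,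
      mul_one]
  have hdeg₂ : ∑ i : IrrCharacter G, k₂ i * H12.degree (i : G → ℂ) = 9 := by
    have h1 := e₂ 1
    rw [hF.one₂] at h1
    simp only [H12.irr_apply_one] at h1
    have h2 : ((∑ i : IrrCharacter G, k₂ i * H12.degree (i : G → ℂ) : ℕ) : ℂ) = ((9 : ℕ) : ℂ) := by
      push_cast at h1 ⊢
      rw [← h1]
      norm_num
    exact_mod_cast h2
  have htriv : k₂ (H12.oneIrr G) = 0 := by
    have h1 := hF.triv
    rw [show (fun g => (Θ.Y 1 : G → ℂ) g * conj ((Θ.Y (-1) : G → ℂ) g)) =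
      ∑ j : IrrCharacter G, (k₂ j : ℂ) • (j : G → ℂ) from funext fun g => by rw [e₂ g]; simp,
      H12.classInner_sum_smul_irr] at h1
    exact_mod_cast h1
  obtain ⟨hkb, hsb⟩ := hX b hbX
  obtain ⟨hkY, hsY⟩ := hY 1 hl1
  rw [if_pos (by norm_num : (1 : ZMod p) = (-1) ^ 2), mul_one] at hkY
  rw [← hd, hpZ] at hsb
  rw [← hm, hpZ] at hsY
  have hdpos : 0 < d := H12.irr_degree_pos b
  have hmpos : 0 < m := H12.irr_degree_pos _
  rcases Φ.εX_eq b hbX with hεb | hεb
  · -- the sign cannot be positive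
    exfalso
    rw [hεb] at hkb hsb hrel
    have hδ : Φ.δ = 1 := Φ.δ_eq.resolve_right fun hδ => by rw [hδ] at hrel; omega
    rw [hδ] at hkY hrel hsY
    have hk2 : 1 ≤ k₂ (Φ.Y 1) := by omega
    have hsplit := Finset.add_sum_erase Finset.univ
      (fun i : IrrCharacter G => k₂ i * H12.degree (i : G → ℂ)) (Finset.mem_univ (Φ.Y 1))
    rw [hdeg₂, ← hm] at hsplit
    have hm9 : k₂ (Φ.Y 1) * m ≤ 9 := by omega
    have hm1 : m ≤ k₂ (Φ.Y 1) * m := Nat.le_mul_of_pos_left m hk2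
    have hd1 : d ≠ 1 := fun hd1 => by
      obtain ⟨l, hl⟩ := H12.exists_monoidHom_of_apply_one_eq_one (H12.isCharacter_irr b)
        (by rw [H12.irr_apply_one, ← hd, hd1, Nat.cast_one])
      refine hbne (Subtype.ext (funext fun g => ?_))
      rw [← congrFun hl g, h.perfect l]
      simp [H12.oneIrr_apply]
    have hm7 : m = 7 := by omega
    have hk1 : k₂ (Φ.Y 1) = 1 := by
      rw [hm7] at hm9
      omega
    rw [hk1, hm7] at hsplit
    have hrest : ∑ i ∈ Finset.univ.erase (Φ.Y 1), k₂ i * H12.degree (i : G → ℂ) = 0 := by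
      refine Finset.sum_eq_zero fun i hi => ?_
      by_contra hne
      have hle : k₂ i * H12.degree (i : G → ℂ) ≤
          ∑ i ∈ Finset.univ.erase (Φ.Y 1), k₂ i * H12.degree (i : G → ℂ) :=
        Finset.single_le_sum (f := fun i : IrrCharacter G => k₂ i * H12.degree (i : G → ℂ))
          (fun _ _ => Nat.zero_le _) hi
      have hk0 : 0 < k₂ i := Nat.pos_of_ne_zero fun h0 => hne (by rw [h0, zero_mul])
      have hdi : H12.degree (i : G → ℂ) ≤ k₂ i * H12.degree (i : G → ℂ) :=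
        Nat.le_mul_of_pos_left _ hk0
      have := H12.irr_degree_pos i
      have h2 := hno2 i
      have hone : H12.degree (i : G → ℂ) = 1 := by omega
      obtain ⟨l, hl⟩ := H12.exists_monoidHom_of_apply_one_eq_one (H12.isCharacter_irr i)
        (by rw [H12.irr_apply_one, hone, Nat.cast_one])
      have hio : i = H12.oneIrr G := Subtype.ext (funext fun g => by
        rw [← congrFun hl g, h.perfect l]
        simp [H12.oneIrr_apply])
      rw [hio, htriv] at hk0
      omega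
    omega
  -- the sign is negative
  rw [hεb] at hkb hsb hrel
  have hδ : Φ.δ = -1 := Φ.δ_eq.resolve_left fun hδ => by rw [hδ] at hrel; omega
  rw [hδ] at hrel
  have hk2 : 1 ≤ k₂ b := by omega
  have hsplit := Finset.add_sum_erase Finset.univ
    (fun i : IrrCharacter G => k₂ i * H12.degree (i : G → ℂ)) (Finset.mem_univ b)
  rw [hdeg₂, ← hd] at hsplit
  have hd9 : d ≤ k₂ b * d := Nat.le_mul_of_pos_left d hk2
  have hcases : d = 4 ∧ m = 3 ∨ d = 9 ∧ m = 8 := by omega
  have hYb : ∀ g : G, ¬ p ∣ orderOf g → (Φ.Y 1 : G → ℂ) g = (b : G → ℂ) g - 1 := by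
    intro g hg
    have h1 := Φ.rel g hg
    rw [hXeq, Finset.sum_pair hbne.symm, hεone, hεb, hδ, H12.oneIrr_apply] at h1
    push_cast at h1
    linear_combination -h1
  have hbsupp : b ∈ D.supp (H12.oneIrr H) := (Φ.mem_supp _).2 (Or.inl hbX)
  have hint : ∀ g : G, ∃ k : ℤ, (b : G → ℂ) g = (k : ℂ) := by
    intro g
    refine exists_int_of_fixed (isIntegral_irr_val _ g) fun σ => ?_
    have hs := H14.Deg16.galois_supp h hM hbsupp σ fun k => by rw [H12.oneIrr_apply, map_one]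
    set j : IrrCharacter G :=
      ⟨(σ : ℂ → ℂ) ∘ (b : G → ℂ), H25.isIrrCharacter_ringEquiv_comp b.2 σ⟩ with hj
    have hdj : H12.degree (j : G → ℂ) = d := by
      have h1 : σ ((b : G → ℂ) 1) = (H12.degree (j : G → ℂ) : ℂ) := H12.irr_apply_one j
      rw [H12.irr_apply_one, map_natCast] at h1
      exact_mod_cast h1.symm
    have hjb : j = b := by
      rcases (Φ.mem_supp j).1 hs with h1 | ⟨A, hA, he⟩
      · rw [hXeq, Finset.mem_insert, Finset.mem_singleton] at h1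
        rcases h1 with h1 | h1
        · rw [h1, hdone] at hdj; omega
        · exact h1
      · rw [← he, Fam.degree_Y_eq h hft Φ hA, ← hm] at hdj
        omega
    exact congrFun (congrArg Subtype.val hjb) g
  refine ⟨Φ, b, hbsupp, hδ, fun x hx => ?_, hYb, hint, ?_⟩
  · rw [Fam.valX' h hft Φ hbX x hx, hεb]; norm_num
  rcases hcases with hc | ⟨hc, hc'⟩
  · exact Or.inl hc
  refine Or.inr ⟨hc, hc', fun g hg hgH => ?_⟩
  obtain ⟨k, hk⟩ := hint g
  have hb1 : k₂ b = 1 := by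
    have : k₂ b * d ≤ 9 := by omega
    rw [hc] at this
    omega
  have hzero : ∀ i : IrrCharacter G, i ≠ b → k₂ i = 0 := fun i hi => by
    have hle : k₂ i * H12.degree (i : G → ℂ) ≤
        ∑ i ∈ Finset.univ.erase b, k₂ i * H12.degree (i : G → ℂ) :=
      Finset.single_le_sum (f := fun i : IrrCharacter G => k₂ i * H12.degree (i : G → ℂ))
        (fun _ _ => Nat.zero_le _) (Finset.mem_erase.2 ⟨hi, Finset.mem_univ i⟩)
    rw [hb1, hc] at hsplit
    have h0 : k₂ i * H12.degree (i : G → ℂ) = 0 := by omega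
    exact (mul_eq_zero.1 h0).resolve_right (H12.irr_degree_pos i).ne'
  have hsq : (b : G → ℂ) g = (χ : G → ℂ) g * conj ((χ : G → ℂ) g) := by
    have h1 := e₂ g
    rw [Finset.sum_eq_single b (fun i _ hi => by rw [hzero i hi]; simp) (by simp), hb1, Nat.cast_one,
      one_mul] at h1
    have h2 := hF.reg g hg
    have h2 : (Θ.Y 1 : G → ℂ) g * conj ((Θ.Y 1 : G → ℂ) g) = (Θ.Y 1 : G → ℂ) g * conj ((Θ.Y (-1) : G → ℂ) g) := h2
    rw [← h1, ← h2, hΘ]
  rw [Complex.mul_conj] at hsq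
  have hkr : Complex.normSq ((χ : G → ℂ) g) = (k : ℝ) := by exact_mod_cast (hsq.symm.trans hk)
  have hlt := norm_Y_lt h hft hM hgen Θ hΘδ hΘd hgH
  rw [hΘ] at hlt
  refine ⟨k, ?_, ?_, hk⟩
  · have : (0 : ℝ) ≤ (k : ℝ) := hkr ▸ Complex.normSq_nonneg _
    exact_mod_cast this
  · have h3 : (k : ℝ) < 9 := by
      rw [← hkr, ← Complex.sq_norm]
      have h0 := norm_nonneg ((χ : G → ℂ) g)
      push_cast at hlt
      nlinarith
    have : k < 9 := by exact_mod_cast h3
    omega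

end H85.SmallPrime
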