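import Cfsg.Agent.H85.SmallPrime.Quot
import Cfsg.Agent.H15.Degree.Main

/-!
Small primes (helper85): faithful characters of degree three and a non-normal Sylow subgroup of
order five. The reduction repeats the one of `H15.Degree.main`.
-/

set_option autoImplicit false
set_option linter.style.haveILetI false
set_option linter.unusedSectionVars false

open Cfsg
open scoped ComplexConjugate

namespace H85.SmallPrime

open H85.D1 H15.HalfDeg H15.Degree

universe u

variable {A : Type u} [Group A] [Finite A]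

/-- Degree three at five: the group modulo its centre is `PSL(2, 5)` or `A₆`. -/
theorem five (p : ℕ) [hp : Fact p.Prime] (hp5 : p = 5) (P : Sylow p A) (hP : Nat.card P = p)
    (hnn : ¬ (P : Subgroup A).Normal) (ζ : A → ℂ) (hζ : IsIrrCharacter A ζ)
    (hfaith : ∀ g : A, ζ g = ζ 1 → g = 1) (hdeg3 : H12.degree ζ = 3) :
    Nonempty ((A ⧸ Subgroup.center A) ≃* Matrix.ProjectiveSpecialLinearGroup (Fin 2) (ZMod 5)) ∨
      Nonempty ((A ⧸ Subgroup.center A) ≃* ↥(alternatingGroup (Fin 6))) := by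
  subst hp5
  have hdeg : H12.degree ζ + 2 ≤ 5 := by omega
  classical
  letI : Fintype A := Fintype.ofFinite A
  have hp' : Nat.Prime 5 := hp.out
  obtain ⟨M, hM⟩ := H22.exists_isPModular 5 hp'
  haveI : M.IsPrime := hM.2.1.isPrime
  obtain ⟨u, a, H, D⟩ := exists_setting hP
  haveI : Fintype H := Fintype.ofFinite _
  haveI : Fintype (P : Subgroup A) := Fintype.ofFinite _
  haveI : Fintype (D.aut (H12.oneIrr H)) := Fintype.ofFinite _
  set χA : IrrCharacter A := ⟨ζ, hζ⟩ with hχA
  obtain ⟨hfA2, hfA, hfAd, θA, hθA, hSA⟩ := exists_colY D hM hnn χA hdeg hfaith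
  set fA := Nat.card (D.aut (H12.oneIrr H)) with hfAdef
  have hcls := card_classes D
  rw [← hfAdef] at hcls
  -- the subgroup generated by the elements of order `5`
  set L := Subgroup.closure {g : A | g ^ 5 = 1} with hL
  haveI hLn : L.Normal := by
    refine Subgroup.normalizer_eq_top_iff.1 (top_le_iff.1 fun g _ => ?_)
    rw [Subgroup.mem_normalizer_iff_map_conj_eq, hL, MonoidHom.map_closure]
    congr 1
    ext y
    constructor
    · rintro ⟨z, hz, rfl⟩
      show (MulAut.conj g z) ^ 5 = 1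
      rw [← map_pow, show z ^ 5 = 1 from hz, map_one]
    · intro hy
      refine ⟨g⁻¹ * y * g, ?_, by simp [mul_assoc]⟩
      show (g⁻¹ * y * g) ^ 5 = 1
      rw [show g⁻¹ * y * g = g⁻¹ * y * (g⁻¹)⁻¹ by rw [inv_inv], conj_pow,
        show y ^ 5 = 1 from hy, mul_one, mul_inv_cancel]
  have hmemL : ∀ g : A, g ^ 5 = 1 → g ∈ L := fun g hg => Subgroup.subset_closure hg
  have hpowP : ∀ x ∈ (P : Subgroup A), x ^ 5 = 1 := fun x hx => H15.PSubTwo.pow_p_eq_one D hx
  have hPL : (P : Subgroup A) ≤ L := fun x hx => hmemL x (hpowP x hx)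
  haveI : Fintype L := Fintype.ofFinite _
  set P' := P.subtype hPL with hP'
  have hP'c : Nat.card P' = 5 := by
    exact (Nat.card_congr (Subgroup.subgroupOfEquivOfLe hPL).toEquiv).trans hP
  obtain ⟨u', a', H', D'⟩ := exists_setting hP'c
  haveI : Fintype H' := Fintype.ofFinite _
  haveI : Fintype (P' : Subgroup L) := Fintype.ofFinite _
  haveI : Fintype (D'.aut (H12.oneIrr H')) := Fintype.ofFinite _
  have hgen : Subgroup.closure {g : L | g ^ 5 = 1} = ⊤ := by
    refine Eq.trans (congrArg _ ?_) (Subgroup.closure_closure_coe_preimage (k := {g : A | g ^ 5 = 1}))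
    ext g
    simp only [Set.mem_setOf_eq, Set.mem_preimage, ← SubmonoidClass.coe_pow]
    exact ⟨fun h => by rw [h]; rfl, fun h => Subtype.ext h⟩
  have hP'n : ¬ (P' : Subgroup L).Normal := by
    intro hN
    refine hnn ⟨fun x hx g => ?_⟩
    set y := g * x * g⁻¹ with hy
    have hyp : y ^ 5 = 1 := by rw [hy, conj_pow, hpowP x hx, mul_one, mul_inv_cancel]
    obtain ⟨k, -, hk⟩ := (Nat.dvd_prime_pow hp').1
      ((pow_one 5).symm ▸ orderOf_dvd_of_pow_eq_one hyp : orderOf y ∣ 5 ^ 1)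
    obtain ⟨z, hz, hconj⟩ := H20.FreeSylow.exists_isConj_mem (P := P')
      (y := (⟨y, hmemL y hyp⟩ : L)) ⟨k, by rw [Subgroup.orderOf_mk, hk]⟩
    obtain ⟨t, ht⟩ := isConj_iff.1 hconj.symm
    have h1 := hN.conj_mem z hz t
    rw [ht] at h1
    exact h1
  set u₁ : ↥(P' : Subgroup L) := ⟨⟨u, hPL D.u_mem⟩, D.u_mem⟩ with hu₁
  have hu₁1 : u₁ ≠ 1 := fun h' => D.u_ne_one
    (congrArg (fun w : ↥(P' : Subgroup L) => ((w : L) : A)) h')
  -- the inertial group of `L` embeds
  choose tt htt0 htt using fun α : D'.aut (H12.oneIrr H') => D'.mem_aut_iff.1 α.2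
  have httN : ∀ α, ((tt α : L) : A) ∈ Subgroup.normalizer ((P : Subgroup A) : Set A) := fun α => by
    have hmem : ((tt α : L) : A) * u * ((tt α : L) : A)⁻¹ ∈ (P : Subgroup A) := by
      have h1 := ((α : MulAut (P' : Subgroup L)) u₁).2
      rw [htt α u₁] at h1
      exact h1
    exact D.mem_normalizer D.u_mem D.u_ne_one hmem rfl
  let emb : D'.aut (H12.oneIrr H') → D.aut (H12.oneIrr H) := fun α =>
    ⟨(P : Subgroup A).normalizerMonoidHom ⟨_, httN α⟩,
      D.mem_aut_iff.2 ⟨_, by rw [D.stab_one]; exact httN α, fun x => rfl⟩⟩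
  have hemb : Function.Injective emb := by
    intro α β he
    have h1 : ((tt α : L) : A) * u * ((tt α : L) : A)⁻¹ =
        ((tt β : L) : A) * u * ((tt β : L) : A)⁻¹ :=
      congrArg (fun γ : D.aut (H12.oneIrr H) =>
        (((γ : MulAut (P : Subgroup A)) ⟨u, D.u_mem⟩ : (P : Subgroup A)) : A)) he
    refine Subtype.ext (MulEquiv.ext fun x => ?_)
    obtain ⟨i, rfl⟩ := zpowers_top hP'c hu₁1 x
    rw [map_zpow, map_zpow]
    congr 1
    refine Subtype.ext (Subtype.ext ?_)
    rw [htt α u₁, htt β u₁]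
    exact h1
  set fL := Nat.card (D'.aut (H12.oneIrr H')) with hfLdef
  have hfle : fL ≤ fA := Nat.card_le_card_of_injective emb hemb
  -- the constituent of the restriction
  obtain ⟨mu, hmu⟩ := H12.IsCharacter.exists_mult
    (H12.IsCharacter.res (H12.isCharacter_irr χA) L)
  have hmy : ∀ y : L, ζ y = ∑ i : IrrCharacter L, (mu i : ℂ) * (i : L → ℂ) y := fun y => by
    have := congrFun hmu y
    simpa using this
  have hdegL : H12.degree ζ = ∑ i : IrrCharacter L, mu i * H12.degree (i : L → ℂ) := by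
    have h := hmy 1
    rw [OneMemClass.coe_one, H12.IsCharacter.apply_one_eq_degree
      (H12.isCharacter_of_isIrrCharacter hζ)] at h
    simp only [H12.irr_apply_one] at h
    exact_mod_cast h
  have hterm : ∀ i, mu i * H12.degree (i : L → ℂ) ≤ H12.degree ζ := fun i => by
    rw [hdegL]
    exact Finset.single_le_sum (f := fun i : IrrCharacter L => mu i * H12.degree (i : L → ℂ))
      (fun i _ => Nat.zero_le _) (Finset.mem_univ i)
  have hscalar : ∀ i : IrrCharacter L, 2 * H12.degree (i : L → ℂ) + 1 < 5 → ∀ x : L,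
      x ∈ (P' : Subgroup L) → ∀ g : L, (i : L → ℂ) (x * g * (g * x)⁻¹) = (i : L → ℂ) 1 := by
    intro i hi x hx g
    have hnorm := D'.norm_eq_of_small hM hgen i (by omega) (x := x) hx
    obtain ⟨k, σ, hσ, he'⟩ := i.2
    rw [← he'] at hnorm ⊢
    rw [H12.degree_character] at hnorm
    obtain ⟨ω, hω⟩ := H12.exists_scalar_of_norm_eq σ x hnorm
    have h1 : σ (x * g) = σ (g * x) := by
      rw [map_mul, map_mul, hω]
      ext v
      simp
    show LinearMap.trace ℂ _ (σ (x * g * (g * x)⁻¹)) = LinearMap.trace ℂ _ (σ 1)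
    rw [map_mul, h1, ← map_mul, mul_inv_cancel]
  obtain ⟨ψ₀, hψ₀, hbig⟩ : ∃ i : IrrCharacter L, mu i ≠ 0 ∧ 5 ≤ 2 * H12.degree (i : L → ℂ) + 1 := by
    by_contra! hall
    refine hP'n ⟨fun x hx g => ?_⟩
    have h1 : ζ ((x * g * (g * x)⁻¹ : L) : A) = ζ 1 := by
      rw [show ζ 1 = ζ ((1 : L) : A) from rfl, hmy, hmy]
      refine Finset.sum_congr rfl fun i _ => ?_
      rcases Nat.eq_zero_or_pos (mu i) with h | h
      · rw [h]; simp
      · rw [hscalar i (hall i h.ne') x hx g]
    have h2 : x * g = g * x := mul_inv_eq_one.1 (Subtype.ext (hfaith _ h1))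
    rw [← h2, mul_inv_cancel_right]
    exact hx
  have hfL2 : 2 ≤ fL := by
    by_contra hlt
    have hfL1 : Nat.card (D'.aut (H12.oneIrr H')) = 1 := by
      have : 0 < fL := hfLdef ▸ Nat.card_pos
      omega
    refine hP'n ⟨fun x hx g => ?_⟩
    have h1 : ζ ((x * g * (g * x)⁻¹ : L) : A) = ζ 1 := by
      rw [show ζ 1 = ζ ((1 : L) : A) from rfl, hmy, hmy]
      refine Finset.sum_congr rfl fun i _ => ?_
      rcases Nat.eq_zero_or_pos (mu i) with h | h
      · rw [h]; simp
      have hle : H12.degree (i : L → ℂ) ≤ H12.degree ζ :=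
        (Nat.le_mul_of_pos_left _ h).trans (hterm i)
      have hnorm := H15.PSubTwo.norm_eq_of_trivial_aut D' hM hfL1 i (by omega) hx
      obtain ⟨k, σ, hσ, he'⟩ := i.2
      rw [← he'] at hnorm ⊢
      rw [H12.degree_character] at hnorm
      obtain ⟨ω, hω⟩ := H12.exists_scalar_of_norm_eq σ x hnorm
      have h3 : σ (x * g) = σ (g * x) := by
        rw [map_mul, map_mul, hω]
        ext v
        simp
      congr 1
      show LinearMap.trace ℂ _ (σ (x * g * (g * x)⁻¹)) = LinearMap.trace ℂ _ (σ 1)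
      rw [map_mul, h3, ← map_mul, mul_inv_cancel]
    have h2 : x * g = g * x := mul_inv_eq_one.1 (Subtype.ext (hfaith _ h1))
    rw [← h2, mul_inv_cancel_right]
    exact hx
  have hperf : ∀ l : L →* ℂˣ, l = 1 := lin_trivial D' hgen hfL2
  have hLne : L ≠ ⊥ := fun he => D.u_ne_one (by
    have := hPL D.u_mem
    rwa [he, Subgroup.mem_bot] at this)
  have hrest : ∀ i : IrrCharacter L, i ≠ ψ₀ → mu i = 0 := by
    intro i hi
    by_contra h0
    have hpair : mu ψ₀ * H12.degree (ψ₀ : L → ℂ) + mu i * H12.degree (i : L → ℂ) ≤ H12.degree ζ := by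
      rw [hdegL, ← Finset.add_sum_erase _ _ (Finset.mem_univ ψ₀)]
      exact Nat.add_le_add_left (Finset.single_le_sum
        (f := fun i : IrrCharacter L => mu i * H12.degree (i : L → ℂ)) (fun i _ => Nat.zero_le _)
        (Finset.mem_erase.2 ⟨hi, Finset.mem_univ i⟩)) _
    have h1 := Nat.le_mul_of_pos_left (H12.degree (ψ₀ : L → ℂ)) (Nat.pos_of_ne_zero hψ₀)
    have h2 := Nat.le_mul_of_pos_left (H12.degree (i : L → ℂ)) (Nat.pos_of_ne_zero h0)
    have hsmall : 2 * H12.degree (i : L → ℂ) + 1 < 5 := by omega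
    -- `i` is linear, so trivial
    obtain ⟨k, σ, hσ, he'⟩ := i.2
    haveI := hσ
    have hcomm : ∀ x y : L, σ x * σ y = σ y * σ x := by
      intro x y
      have hx : x ∈ Subgroup.closure {g : L | g ^ 5 = 1} := hgen ▸ Subgroup.mem_top x
      induction hx using Subgroup.closure_induction with
      | mem z hz =>
        obtain ⟨c, -, hc⟩ := (Nat.dvd_prime_pow hp').1
          ((pow_one 5).symm ▸ orderOf_dvd_of_pow_eq_one hz : orderOf z ∣ 5 ^ 1)
        obtain ⟨w, hw, hconj⟩ := H20.FreeSylow.exists_isConj_mem (P := P') (y := z) ⟨c, hc⟩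
        obtain ⟨s, hs⟩ := isConj_iff.1 hconj.symm
        have hnorm := D'.norm_eq_of_small hM hgen i (by omega) (x := w) hw
        rw [← he', H12.degree_character] at hnorm
        obtain ⟨ω, hω⟩ := H12.exists_scalar_of_norm_eq σ w hnorm
        have hz' : σ z = ω • LinearMap.id := by
          rw [← hs, map_mul, map_mul, hω]
          rw [← Module.End.one_eq_id, mul_smul_comm, mul_one, smul_mul_assoc, ← map_mul,
            mul_inv_cancel, map_one]
        rw [hz']
        ext v
        simp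
      | one => rw [map_one, one_mul, mul_one]
      | mul x z _ _ hx hz => rw [map_mul, mul_assoc, hz, ← mul_assoc, hx, mul_assoc]
      | inv x _ hx =>
        have e1 : σ x⁻¹ * σ x = 1 := by rw [← map_mul, inv_mul_cancel, map_one]
        have e2 : σ x * σ x⁻¹ = 1 := by rw [← map_mul, mul_inv_cancel, map_one]
        calc σ x⁻¹ * σ y = σ x⁻¹ * (σ y * σ x) * σ x⁻¹ := by
              rw [mul_assoc (σ x⁻¹), mul_assoc (σ y), e2, mul_one]
          _ = σ x⁻¹ * (σ x * σ y) * σ x⁻¹ := by rw [hx]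
          _ = σ y * σ x⁻¹ := by rw [← mul_assoc (σ x⁻¹), e1, one_mul]
    have hd1 : H12.degree (i : L → ℂ) = 1 := by
      refine Nat.dvd_one.1 ?_
      rw [← Subgroup.index_top (G := L)]
      refine H15.degree_dvd_index_of_scalar i.2 ⊤ (fun z _ => ?_) (H12.irr_apply_one i)
      obtain ⟨c, hc⟩ := H12.exists_scalar_of_commute σ (σ z) fun y => hcomm z y
      have hk0 : (k : ℂ) ≠ 0 := by
        have hpos := H12.irr_degree_pos i
        rw [← he', H12.degree_character, Module.finrank_fintype_fun_eq_card, Fintype.card_fin] at hpos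
        exact Nat.cast_ne_zero.2 hpos.ne'
      have hcn : ‖c‖ = 1 := by
        refine Complex.norm_eq_one_of_pow_eq_one (n := orderOf z) ?_ (orderOf_pos z).ne'
        have h3 : σ (z ^ orderOf z) = (c ^ orderOf z) • (1 : Module.End ℂ (Fin k → ℂ)) := by
          rw [map_pow, hc, smul_pow, one_pow]
        rw [pow_orderOf_eq_one, map_one] at h3
        have h4 := congrArg (LinearMap.trace ℂ (Fin k → ℂ)) h3
        rw [map_smul, LinearMap.trace_one, smul_eq_mul, Module.finrank_fintype_fun_eq_card,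
          Fintype.card_fin] at h4
        exact mul_right_cancel₀ hk0 (h4.symm.trans (one_mul _).symm)
      rw [← he', σ.char_one, show σ.character z = LinearMap.trace ℂ _ (σ z) from rfl, hc,
        map_smul, LinearMap.trace_one, smul_eq_mul, Module.finrank_fintype_fun_eq_card,
        Fintype.card_fin, norm_mul, hcn, one_mul]
    obtain ⟨l, hl⟩ := H12.exists_monoidHom_of_apply_one_eq_one (H12.isCharacter_irr i)
      (by rw [H12.irr_apply_one, hd1, Nat.cast_one])
    have hione : i = H12.oneIrr L := Subtype.ext (funext fun y => by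
      rw [H12.oneIrr_apply, ← congrFun hl y, hperf l]; simp)
    refine hLne (eq_bot_of_trivial_constituent L χA hfaith ?_)
    rw [hmu, H12.classInner_sum_smul_irr, ← hione]
    exact Nat.cast_ne_zero.2 h0
  have hm1 : mu ψ₀ = 1 := by
    have h1 := hterm ψ₀
    by_contra hne
    have h2 := Nat.mul_le_mul_right (H12.degree (ψ₀ : L → ℂ)) (show 2 ≤ mu ψ₀ by omega)
    omega
  have hres : ∀ y : L, ζ y = (ψ₀ : L → ℂ) y := fun y => by
    rw [hmy, Finset.sum_eq_single ψ₀ (fun i _ hi => by rw [hrest i hi]; simp) (by simp), hm1,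
      Nat.cast_one, one_mul]
  have hdψ : H12.degree (ψ₀ : L → ℂ) = H12.degree ζ := by
    have h := hres 1
    rw [OneMemClass.coe_one, H12.IsCharacter.apply_one_eq_degree
      (H12.isCharacter_of_isIrrCharacter hζ), H12.irr_apply_one] at h
    exact_mod_cast h.symm
  have hfψ : ∀ l : L, (ψ₀ : L → ℂ) l = (ψ₀ : L → ℂ) 1 → l = 1 := fun l hl => by
    rw [← hres, ← hres, OneMemClass.coe_one] at hl
    exact Subtype.ext (hfaith _ hl)
  rcases reduce D' hM hgen hP'n ψ₀ (by omega) hfψ with hhalf | ⟨θ, ψ, h⟩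
  · exfalso
    omega
  -- degree `5 - f`
  have hadd : H12.degree ζ + fL = 5 := by
    have := h.add_eq
    rw [hdψ] at this
    exact this
  haveI : Fintype (D.aut θA) := Fintype.ofFinite _
  obtain ⟨SA⟩ := D.exists_shape hM θA
  obtain ⟨hY, hpos, hneg⟩ := hSA SA
  have hε : SA.ε = -1 := by
    refine SA.ε_eq.resolve_left fun hε => ?_
    have hd1 : fA ∣ H12.degree ζ := ⟨_, hpos hε⟩
    obtain ⟨c, hc⟩ := hd1
    obtain ⟨t, ht⟩ := hfAd
    have hk : fA * c + fL = fA * t + 1 := by omega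
    have hct : c < t + 1 := by
      by_contra hlt
      have := Nat.mul_le_mul_left fA (not_lt.1 hlt)
      rw [Nat.mul_add] at this
      omega
    rcases Nat.lt_or_ge c t with hlt | hge
    · have := Nat.mul_le_mul_left fA hlt
      rw [Nat.mul_succ] at this
      omega
    · rw [show c = t by omega] at hk
      omega
  obtain ⟨haddA, hd1⟩ := hneg hε
  have hff : fA = fL := by
    have : H12.degree ζ + fA = 5 := haddA
    omega
  obtain ⟨hHc, -⟩ := exists_data D hM hnn hfaith haddA hθA hd1 SA hY hε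
  have hbij : Function.Bijective emb :=
    (Nat.bijective_iff_injective_and_card emb).2 ⟨hemb, hff.symm⟩
  have hGL : ∀ g : A, ∃ l : L, (l : A)⁻¹ * g ∈ Subgroup.center A := by
    intro g
    set y := g * u * g⁻¹ with hy
    have hyp : y ^ 5 = 1 := by rw [hy, conj_pow, hpowP u D.u_mem, mul_one, mul_inv_cancel]
    obtain ⟨k, -, hk⟩ := (Nat.dvd_prime_pow hp').1
      ((pow_one 5).symm ▸ orderOf_dvd_of_pow_eq_one hyp : orderOf y ∣ 5 ^ 1)
    obtain ⟨z, hz, hconj⟩ := H20.FreeSylow.exists_isConj_mem (P := P')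
      (y := (⟨y, hmemL y hyp⟩ : L)) ⟨k, by rw [Subgroup.orderOf_mk, hk]⟩
    obtain ⟨l, hl⟩ := isConj_iff.1 hconj
    have hlA : (l : A) * y * (l : A)⁻¹ = (z : A) := congrArg Subtype.val hl
    set n₀ := (l : A) * g with hn₀
    have hn0u : n₀ * u * n₀⁻¹ = (z : A) := by rw [← hlA, hy, hn₀]; group
    have hN : n₀ ∈ Subgroup.normalizer ((P : Subgroup A) : Set A) :=
      D.mem_normalizer D.u_mem D.u_ne_one hz hn0u
    obtain ⟨α, hα⟩ := hbij.2 ⟨(P : Subgroup A).normalizerMonoidHom ⟨n₀, hN⟩,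
      D.mem_aut_iff.2 ⟨n₀, by rw [D.stab_one]; exact hN, fun x => rfl⟩⟩
    have htu : ((tt α : L) : A) * u * ((tt α : L) : A)⁻¹ = n₀ * u * n₀⁻¹ :=
      congrArg (fun γ : D.aut (H12.oneIrr H) =>
        (((γ : MulAut (P : Subgroup A)) ⟨u, D.u_mem⟩ : (P : Subgroup A)) : A)) hα
    have hcu : Commute (((tt α : L) : A)⁻¹ * n₀) u := by
      refine mul_inv_eq_iff_eq_mul.1 ?_
      calc ((tt α : L) : A)⁻¹ * n₀ * u * (((tt α : L) : A)⁻¹ * n₀)⁻¹
          = ((tt α : L) : A)⁻¹ * (n₀ * u * n₀⁻¹) * (tt α : L) := by group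
        _ = u := by rw [← htu]; group
    obtain ⟨x, hx, k', hk', hxk⟩ := D.exists_mul (D.centralizer_eq D.u_mem D.u_ne_one hcu)
    refine ⟨l⁻¹ * tt α * ⟨x, hPL hx⟩, ?_⟩
    have he : ((l⁻¹ * tt α * ⟨x, hPL hx⟩ : L) : A)⁻¹ * g = k' := by
      push_cast
      rw [hn₀] at hxk
      rw [show ((l : A)⁻¹ * (tt α : L) * x)⁻¹ * g = x⁻¹ * (((tt α : L) : A)⁻¹ * ((l : A) * g)) by
        group, hxk, inv_mul_cancel_left]
    rw [he]
    exact hHc ▸ hk'
  have hcent : ∀ l : L, l ∈ Subgroup.center L ↔ (l : A) ∈ Subgroup.center A := by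
    intro l
    refine ⟨fun hl => Subgroup.mem_center_iff.2 fun g => ?_, fun hl =>
      Subgroup.mem_center_iff.2 fun g => Subtype.ext (Subgroup.mem_center_iff.1 hl g)⟩
    obtain ⟨l₁, hl₁⟩ := hGL g
    have e1 : (l₁ : A) * l = l * l₁ := congrArg Subtype.val (Subgroup.mem_center_iff.1 hl l₁)
    have e2 := Subgroup.mem_center_iff.1 hl₁ (l : A)
    calc g * l = (l₁ : A) * (((l₁ : A)⁻¹ * g) * l) := by group
      _ = (l₁ : A) * (l * ((l₁ : A)⁻¹ * g)) := by rw [e2]
      _ = (l₁ : A) * l * ((l₁ : A)⁻¹ * g) := by rw [mul_assoc]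
      _ = l * g := by rw [e1]; group
  have hfL : fL = 2 := by omega
  rw [← hfLdef, hfL, hdψ, hdeg3] at h
  let φ : L →* A ⧸ Subgroup.center A := (QuotientGroup.mk' _).comp L.subtype
  have hφs : Function.Surjective φ := fun q => by
    obtain ⟨g, rfl⟩ := QuotientGroup.mk'_surjective _ q
    obtain ⟨l, hl⟩ := hGL g
    exact ⟨l, QuotientGroup.eq.2 hl⟩
  have hker : Subgroup.center L = φ.ker := by
    ext l
    rw [hcent, MonoidHom.mem_ker]
    exact (QuotientGroup.eq_one_iff (l : A)).symm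
  have e := ((QuotientGroup.quotientMulEquivOfEq hker).trans
    (QuotientGroup.quotientKerEquivOfSurjective φ hφs)).symm
  rcases quot_cases h hM hgen with e' | e'
  · exact Or.inl (e'.map e.trans)
  · exact Or.inr (e'.map e.trans)

end H85.SmallPrime
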