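import Cfsg.Agent.H62.InvertCount
import Cfsg.Agent.H20.FreeAction
import Cfsg.Agent.H24.CharBasic
import Cfsg.Agent.H12.Orth
import Mathlib.GroupTheory.GroupAction.Quotient

/-!
Small primes (helper85): the local facts at a self-centralising subgroup of order five whose
normaliser has order ten, and a class multiplication congruence.
-/

set_option autoImplicit false
set_option linter.style.haveILetI false
set_option linter.unusedSectionVars false

open Cfsg Subgroup
open scoped ComplexConjugate

namespace H85.SmallPrime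

universe u

variable {X : Type u} [Group X] [Fintype X] [Fact (Nat.Prime 5)] {P : Sylow 5 X}
  (hP : Nat.card (P : Subgroup X) = 5)
  (hC : centralizer ((P : Subgroup X) : Set X) = (P : Subgroup X))

section Singular

include hP hC

/-- An element of order divisible by five is conjugate to an element of `P`. -/
theorem exists_conj_mem {x : X} (hx : 5 ∣ orderOf x) :
    ∃ y ∈ (P : Subgroup X), y ≠ 1 ∧ IsConj x y := by
  obtain ⟨m, hm⟩ := hx
  have hm0 : m ≠ 0 := fun h => by rw [h, mul_zero] at hm; exact (orderOf_pos x).ne' hm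
  have ho : orderOf (x ^ m) = 5 := by
    rw [orderOf_pow' x hm0, hm, Nat.gcd_mul_left_left, Nat.mul_div_cancel _ (Nat.pos_of_ne_zero hm0)]
  obtain ⟨y, hy, hconj⟩ := H20.FreeSylow.exists_isConj_mem (P := P) (y := x ^ m) ⟨1, by rw [ho, pow_one]⟩
  obtain ⟨t, ht⟩ := isConj_iff.1 hconj
  have hy1 : y ≠ 1 := fun h => by
    rw [h] at hconj
    rw [isConj_one_left.1 hconj, orderOf_one] at ho
    norm_num at ho
  have hmem : t * x * t⁻¹ ∈ (P : Subgroup X) := by
    rw [← H62.centralizer_eq_of_mem hP hC hy hy1, mem_centralizer_singleton_iff, ← ht]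
    group
  refine ⟨_, hmem, fun h => ?_, isConj_iff.2 ⟨t, rfl⟩⟩
  have hx1 : x = 1 := conj_eq_one_iff.1 h
  rw [hx1, orderOf_one] at hm
  omega

/-- The centraliser of `w` divides the number of pairs from the class of `y` with product `w`. -/
theorem centralizer_dvd {y : X} (hy : y ∈ (P : Subgroup X)) {w : X} (hw1 : w ≠ 1)
    (hw : ¬ 5 ∣ orderOf w) :
    ∃ L : ℕ, (25 * L * Nat.card (centralizer ({w} : Set X)) : ℂ) =
      (Nat.card X : ℂ) * ∑ χ : IrrCharacter X,
        (χ : X → ℂ) y * (χ : X → ℂ) y * conj ((χ : X → ℂ) w) / (χ : X → ℂ) 1 := by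
  classical
  set S := {a : X // IsConj (y * (a * y * a⁻¹)) w} with hS
  have hcomm : ∀ q ∈ (P : Subgroup X), q * y = y * q := fun q hq => by
    have h1 := hC.ge hy
    exact mem_centralizer_iff.1 h1 q hq
  have hmem : ∀ (q q' : (P : Subgroup X)) (a : X), IsConj (y * (a * y * a⁻¹)) w →
      IsConj (y * ((q : X) * a * (q' : X)⁻¹ * y * ((q : X) * a * (q' : X)⁻¹)⁻¹)) w := by
    intro q q' a ha
    refine (isConj_iff.2 ⟨(q : X)⁻¹, ?_⟩ : IsConj _ (y * (a * y * a⁻¹))).trans ha
    have e1 : (q' : X)⁻¹ * y * q' = y := by rw [mul_assoc, ← hcomm _ q'.2, inv_mul_cancel_left]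
    have e2 : (q : X)⁻¹ * y * q = y := by rw [mul_assoc, ← hcomm _ q.2, inv_mul_cancel_left]
    calc (q : X)⁻¹ * (y * ((q : X) * a * (q' : X)⁻¹ * y * ((q : X) * a * (q' : X)⁻¹)⁻¹)) * (q : X)⁻¹⁻¹
        = ((q : X)⁻¹ * y * q) * (a * ((q' : X)⁻¹ * y * q') * a⁻¹) := by group
      _ = _ := by rw [e1, e2]
  letI : MulAction (↥(P : Subgroup X) × ↥(P : Subgroup X)) S :=
    { smul := fun q a => ⟨(q.1 : X) * a.1 * (q.2 : X)⁻¹, hmem q.1 q.2 a.1 a.2⟩
      one_smul := fun a => Subtype.ext (by
        show ((1 : ↥(P : Subgroup X)) : X) * a.1 * ((1 : ↥(P : Subgroup X)) : X)⁻¹ = a.1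
        simp)
      mul_smul := fun q r a => Subtype.ext (by
        show ((q.1 * r.1 : ↥(P : Subgroup X)) : X) * a.1 * ((q.2 * r.2 : ↥(P : Subgroup X)) : X)⁻¹ =
          (q.1 : X) * ((r.1 : X) * a.1 * (r.2 : X)⁻¹) * (q.2 : X)⁻¹
        push_cast
        group) }
  have hfree : ∀ a : S, MulAction.stabilizer (↥(P : Subgroup X) × ↥(P : Subgroup X)) a = ⊥ := by
    intro a
    refine (eq_bot_iff_forall _).2 fun q hq => ?_
    have e : (q.1 : X) * a.1 * (q.2 : X)⁻¹ = a.1 := congrArg Subtype.val hq
    have e' : a.1 * (q.2 : X) * a.1⁻¹ = (q.1 : X) := by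
      calc a.1 * (q.2 : X) * a.1⁻¹ = ((q.1 : X) * a.1 * (q.2 : X)⁻¹) * q.2 * a.1⁻¹ := by rw [e]
        _ = (q.1 : X) := by group
    by_cases h2 : q.2 = 1
    · have h1 : q.1 = 1 := by
        refine Subtype.ext ?_
        rw [← e', h2]
        simp
      exact Prod.ext h1 h2
    exfalso
    have hz : zpowers (q.2 : X) = (P : Subgroup X) := by
      refine eq_of_le_of_card_ge (zpowers_le.2 q.2.2) ?_
      rw [hP, Nat.card_zpowers, orderOf_eq_prime (H62.pow_card_of_mem hP q.2.2)
        fun h => h2 (Subtype.ext h)]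
    obtain ⟨i, hi⟩ := mem_zpowers_iff.1 (hz.ge hy)
    have hay : a.1 * y * a.1⁻¹ ∈ (P : Subgroup X) := by
      have h3 : a.1 * y * a.1⁻¹ = (q.1 : X) ^ i := by rw [← e', conj_zpow, hi]
      rw [h3]
      exact zpow_mem q.1.2 i
    obtain ⟨t, ht⟩ := isConj_iff.1 a.2
    have h5 : w ^ 5 = 1 := by
      rw [← ht, conj_pow, H62.pow_card_of_mem hP (mul_mem hy hay), mul_one, mul_inv_cancel]
    exact hw (by rw [orderOf_eq_prime h5 hw1])
  have hc := Nat.card_congr (MulAction.selfEquivOrbitsQuotientProd hfree)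
  rw [Nat.card_prod, Nat.card_prod, hP] at hc
  refine ⟨Nat.card (Quotient (MulAction.orbitRel (↥(P : Subgroup X) × ↥(P : Subgroup X)) S)), ?_⟩
  rw [← H62.card_product_class_eq_sum y y w, hc]
  push_cast
  ring

end Singular

variable (hN : Nat.card (normalizer ((P : Subgroup X) : Set X)) = 10)

section Normalizer

include hP hC hN

/-- An involution inverting `P`, and the sign of the normaliser. -/
theorem exists_involution :
    ∃ t : X, orderOf t = 2 ∧ (∀ w ∈ (P : Subgroup X), t * w * t⁻¹ = w⁻¹) ∧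
      t ∈ normalizer ((P : Subgroup X) : Set X) ∧
      (∀ x ∈ normalizer ((P : Subgroup X) : Set X), x ∉ (P : Subgroup X) → IsConj x t) ∧
      (∀ y ∈ (P : Subgroup X), y ≠ 1 → ¬ IsConj y (y ^ 2)) := by
  classical
  obtain ⟨⟨t, htN⟩, ht'⟩ := exists_prime_orderOf_dvd_card' (G := normalizer ((P : Subgroup X) : Set X))
    2 (by rw [hN]; norm_num)
  rw [Subgroup.orderOf_mk] at ht'
  have hti : ∀ w ∈ (P : Subgroup X), t * w * t⁻¹ = w⁻¹ := fun w hw =>
    H62.involution_inverts hP hC (by norm_num) ht' htN hw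
  have htP : t ∉ (P : Subgroup X) := H62.not_mem_of_involution hP (by norm_num) ht'
  set N := normalizer ((P : Subgroup X) : Set X) with hNdef
  have hidx : ((P : Subgroup X).subgroupOf N).index = 2 := by
    have h1 := ((P : Subgroup X).subgroupOf N).card_mul_index
    rw [Nat.card_congr (subgroupOfEquivOfLe le_normalizer).toEquiv, hP, hN] at h1
    omega
  have hcos : ∀ x ∈ N, x ∉ (P : Subgroup X) → x * t ∈ (P : Subgroup X) := fun x hx hxP => by
    have h1 := (mul_mem_iff_of_index_two hidx (a := ⟨x, hx⟩) (b := ⟨t, htN⟩)).2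
      (iff_of_false (fun h => hxP h) (fun h => htP h))
    exact h1
  have htt : t * t = 1 := by rw [← pow_two, ← ht', pow_orderOf_eq_one]
  refine ⟨t, ht', hti, htN, fun x hx hxP => ?_, fun y hy hy1 hconj => ?_⟩
  · obtain ⟨q, -, hq⟩ := H62.exists_half hP (by norm_num) hti (hcos x hx hxP)
    rw [mul_assoc x, htt, mul_one] at hq
    exact (isConj_iff.2 ⟨q, hq⟩).symm
  · obtain ⟨b, hb⟩ := isConj_iff.1 hconj
    have hy5 : y ^ 5 = 1 := H62.pow_card_of_mem hP hy
    have hbN : b ∈ N := by
      have hz : zpowers y = (P : Subgroup X) := eq_of_le_of_card_ge (zpowers_le.2 hy)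
        (by rw [hP, Nat.card_zpowers, orderOf_eq_prime hy5 hy1])
      have hyy : y = (y ^ 2) ^ 3 := by
        rw [← pow_mul, show 2 * 3 = 5 + 1 by norm_num, pow_add, hy5, one_mul, pow_one]
      have hz2 : zpowers (y ^ 2) = (P : Subgroup X) := by
        refine le_antisymm (zpowers_le.2 (pow_mem hy 2)) ?_
        rw [← hz, zpowers_le]
        have h3 := pow_mem (mem_zpowers (y ^ 2)) 3
        rwa [← hyy] at h3
      rw [hNdef, mem_normalizer_iff_map_conj_eq]
      conv_lhs => rw [← hz, MonoidHom.map_zpowers]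
      rw [show ((MulAut.conj b : X ≃* X) : X →* X) y = y ^ 2 from hb, hz2]
    have hne : ∀ k : ℕ, 0 < k → k < 5 → y ^ k ≠ 1 := fun k h0 hk h => by
      have h1 := orderOf_dvd_of_pow_eq_one h
      rw [orderOf_eq_prime hy5 hy1] at h1
      have := Nat.le_of_dvd h0 h1
      omega
    by_cases hbP : b ∈ (P : Subgroup X)
    · have e : b * y * b⁻¹ = y := by
        rw [← mem_centralizer_iff.1 (hC.ge hbP) y hy, mul_inv_cancel_right]
      rw [e] at hb
      refine hy1 (mul_left_cancel (a := y) ?_)
      rw [mul_one, ← pow_two]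
      exact hb.symm
    · have hq := hcos b hbN hbP
      have e : b * y * b⁻¹ = y⁻¹ := by
        calc b * y * b⁻¹ = (b * t) * (t⁻¹ * y * t) * (b * t)⁻¹ := by group
          _ = (b * t) * y⁻¹ * (b * t)⁻¹ := by
              rw [inv_eq_of_mul_eq_one_right htt]
              have := hti y hy
              rw [inv_eq_of_mul_eq_one_right htt] at this
              rw [this]
          _ = y⁻¹ := by
              rw [← mem_centralizer_iff.1 (hC.ge hq) y⁻¹ (inv_mem hy), mul_inv_cancel_right]
      rw [e] at hb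
      refine hne 3 (by norm_num) (by norm_num) ?_
      calc y ^ 3 = y * y ^ 2 := by rw [← pow_succ']
        _ = 1 := by rw [← hb, mul_inv_cancel]

/-- A character that sums to five on `P`, is odd at the involution and at most nine at one. -/
theorem value_at_involution {F : X → ℂ} (hF : IsCharacter X F) {t : X}
    (hcl : ∀ x ∈ normalizer ((P : Subgroup X) : Set X), x ∉ (P : Subgroup X) → IsConj x t)
    (hsum : ∀ y ∈ (P : Subgroup X), y ≠ 1 → F y = -1) (h1 : F 1 = 9) {v : ℤ} (hv : F t = (v : ℂ))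
    (hv0 : 0 ≤ v) : v = 1 := by
  classical
  set N := normalizer ((P : Subgroup X) : Set X) with hNdef
  have hidx : ((P : Subgroup X).subgroupOf N).index = 2 := by
    have h := ((P : Subgroup X).subgroupOf N).card_mul_index
    rw [Nat.card_congr (subgroupOfEquivOfLe le_normalizer).toEquiv, hP, hN] at h
    omega
  haveI : Fintype N := Fintype.ofFinite _
  set sg : N →* ℂˣ :=
    { toFun := fun x => if (x : X) ∈ (P : Subgroup X) then 1 else -1
      map_one' := by simp
      map_mul' := fun x y => by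
        have h := mul_mem_iff_of_index_two hidx (a := x) (b := y)
        simp only [mem_subgroupOf, Subgroup.coe_mul] at h
        by_cases hx : (x : X) ∈ (P : Subgroup X) <;> by_cases hy : (y : X) ∈ (P : Subgroup X) <;>
          simp [h, hx, hy] }
    with hsg
  set A := (Finset.univ : Finset N).filter (fun x : N => (x : X) ∈ (P : Subgroup X)) with hA
  set B := (Finset.univ : Finset N).filter (fun x : N => ¬ (x : X) ∈ (P : Subgroup X)) with hB
  have hAc : A.card = 5 := by
    rw [hA, ← Fintype.card_subtype, ← Nat.card_eq_fintype_card]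
    refine Eq.trans ?_ hP
    exact Nat.card_congr
      { toFun := fun x => ⟨((x : N) : X), x.2⟩
        invFun := fun y => ⟨⟨y, le_normalizer y.2⟩, y.2⟩
        left_inv := fun x => rfl
        right_inv := fun y => rfl }
  have hBc : B.card = 5 := by
    have h := Finset.card_filter_add_card_filter_not (s := (Finset.univ : Finset N))
      (p := fun x : N => (x : X) ∈ (P : Subgroup X))
    rw [← hA, ← hB, Finset.card_univ, ← Nat.card_eq_fintype_card, hN, hAc] at h
    omega
  have hAs : ∑ x ∈ A, F x = 5 := by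
    have hone : (1 : N) ∈ A := by simp [hA]
    have e : ∀ x ∈ A.erase 1, F (x : X) = (-1 : ℂ) := fun x hx =>
      hsum x (Finset.mem_filter.1 (Finset.mem_of_mem_erase hx)).2
        fun h => Finset.ne_of_mem_erase hx (Subtype.ext h)
    rw [← Finset.add_sum_erase _ _ hone, OneMemClass.coe_one, h1, Finset.sum_congr rfl e, Finset.sum_const,
      Finset.card_erase_of_mem hone, hAc]
    norm_num
  have hBs : ∑ x ∈ B, F x = 5 * v := by
    rw [Finset.sum_congr rfl (g := fun _ => (v : ℂ)) fun x hx => by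
      rw [← hv]
      exact H12.IsClassFunction.of_isConj (H12.IsCharacter.isClassFunction hF)
        (hcl x x.2 (Finset.mem_filter.1 hx).2), Finset.sum_const, hBc]
    simp
  obtain ⟨m, hm⟩ := H24.sum_subgroup_eq hF N
  rw [hN, ← Finset.sum_filter_add_sum_filter_not Finset.univ (fun x : N => (x : X) ∈ (P : Subgroup X)),
    ← hA, ← hB, hAs, hBs] at hm
  obtain ⟨m', hm'⟩ := H12.IsCharacter.classInner_nat
    (H12.IsCharacter.mul (H12.IsCharacter.res hF N) (H12.isCharacter_monoidHom sg))
    (H12.isCharacter_one (G := N))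
  have hs' := H12.sum_mul_conj_eq_card_mul
    ((fun x : N => F x) * fun x : N => ((sg x : ℂˣ) : ℂ)) (fun _ : N => (1 : ℂ))
  rw [hm', hN, ← Finset.sum_filter_add_sum_filter_not Finset.univ (fun x : N => (x : X) ∈ (P : Subgroup X)),
    ← hA, ← hB,
    Finset.sum_congr rfl (g := fun x : N => F x) fun x hx => by
      simp [hsg, (Finset.mem_filter.1 hx).2],
    Finset.sum_congr rfl (s₁ := B) (g := fun x : N => -F x) fun x hx => by
      simp [hsg, (Finset.mem_filter.1 hx).2],
    Finset.sum_neg_distrib, hAs, hBs] at hs'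
  have hm1 : (5 + 5 * v : ℤ) = 10 * m := by
    apply Int.cast_injective (α := ℂ)
    push_cast at hm ⊢
    linear_combination hm
  have hm2 : (5 - 5 * v : ℤ) = 10 * m' := by
    apply Int.cast_injective (α := ℂ)
    push_cast at hs' ⊢
    linear_combination hs'
  omega

end Normalizer

end H85.SmallPrime
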