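import Cfsg.Agent.H24.CharBasic
import Cfsg.Agent.H12.Orth
import Mathlib.Data.Nat.Factorization.Basic
import Mathlib.GroupTheory.Sylow

/-!
Small primes (helper85): bounds on the order of a group from the values of a character.
-/

set_option autoImplicit false
set_option linter.style.haveILetI false
set_option linter.unusedSectionVars false

open Cfsg Polynomial
open scoped ComplexConjugate

namespace H85.SmallPrime

universe u

variable {X : Type u} [Group X] [Finite X]

/-- The moments of a character with few values on a subgroup. -/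
theorem card_dvd_prod {F : X → ℂ} (hF : IsCharacter X F) (T : Subgroup X) {d : ℤ}
    (hd : F 1 = (d : ℂ)) (S : Finset ℤ) (hS : ∀ x ∈ T, x ≠ 1 → ∃ k ∈ S, F x = (k : ℂ)) :
    (Nat.card T : ℤ) ∣ ∏ k ∈ S, (d - k) := by
  classical
  haveI := Fintype.ofFinite T
  set q : ℤ[X] := ∏ k ∈ S, (Polynomial.X - C k) with hq
  choose m hm using fun i : ℕ => H24.sum_subgroup_eq (H12.IsCharacter.pow hF i) T
  have hev : ∀ z : ℂ, aeval z q = ∏ k ∈ S, (z - (k : ℂ)) := fun z => by
    rw [hq, map_prod]
    refine Finset.prod_congr rfl fun k _ => ?_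
    rw [map_sub, aeval_X, aeval_C]
    rfl
  have h1 : ∑ x : T, aeval (F x) q = (((∏ k ∈ S, (d - k)) : ℤ) : ℂ) := by
    rw [Finset.sum_eq_single (1 : T) (fun x _ hx => by
      obtain ⟨k, hk, e⟩ := hS x x.2 fun h => hx (Subtype.ext h)
      rw [hev, e]
      exact Finset.prod_eq_zero hk (sub_self _)) (by simp), OneMemClass.coe_one, hd, hev]
    push_cast
    rfl
  have h2 : ∑ x : T, aeval (F x) q =
      ((((Nat.card T : ℤ) * ∑ i ∈ Finset.range (q.natDegree + 1), q.coeff i * (m i : ℤ)) : ℤ) : ℂ) := by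
    simp only [aeval_eq_sum_range]
    rw [Finset.sum_comm]
    push_cast
    rw [Finset.mul_sum]
    refine Finset.sum_congr rfl fun i _ => ?_
    have h3 := hm i
    rw [show (∑ x : T, (F ^ i) x) = ∑ x : T, F x ^ i from rfl] at h3
    simp only [zsmul_eq_mul]
    rw [← Finset.mul_sum, h3]
    ring
  exact ⟨_, Int.cast_injective (h1.symm.trans h2)⟩

/-- The order divides the product when the Sylow subgroup of the exceptional prime does. -/
theorem card_dvd_of_values {F : X → ℂ} (hF : IsCharacter X F) (p : ℕ) [hpp : Fact p.Prime] {N : ℕ}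
    (hp : ∀ k : ℕ, p ^ k ∣ Nat.card X → p ^ k ∣ N) {d : ℤ}
    (hd : F 1 = (d : ℂ)) (S : Finset ℤ) (hprod : ∏ k ∈ S, (d - k) = (N : ℤ))
    (hS : ∀ x : X, x ≠ 1 → ¬ p ∣ orderOf x → ∃ k ∈ S, F x = (k : ℂ)) : Nat.card X ∣ N := by
  rw [Nat.dvd_iff_prime_pow_dvd_dvd]
  intro r k hr hrk
  by_cases hrp : r = p
  · subst hrp
    exact hp k hrk
  haveI := Fact.mk hr
  obtain ⟨K, hK⟩ := Sylow.exists_subgroup_card_pow_prime r hrk
  have h1 := card_dvd_prod hF K hd S fun x hx hx1 => hS x hx1 fun hdp => by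
    have h2 : orderOf x ∣ r ^ k := by
      have := orderOf_dvd_natCard (⟨x, hx⟩ : K)
      rwa [Subgroup.orderOf_mk, hK] at this
    exact hrp ((Nat.prime_dvd_prime_iff_eq hpp.out hr).1
      (hpp.out.dvd_of_dvd_pow (hdp.trans h2))).symm
  rw [hprod, hK] at h1
  exact_mod_cast h1

end H85.SmallPrime
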