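import Cfsg.Agent.H85.SmallPrime.Six
import Cfsg.Agent.H85.SmallPrime.Block
import Cfsg.Agent.H24.Quot
import Cfsg.Agent.H65.Order360

/-!
Small primes (helper85): the perfect group generated by the elements of order five, modulo its
centre.
-/

set_option autoImplicit false
set_option linter.style.haveILetI false
set_option linter.unusedSectionVars false

open Cfsg
open scoped ComplexConjugate

namespace H85.SmallPrime

open H85.D1 H15.HalfDeg H15.Degree

universe u

variable {G : Type u} [Group G] [Fintype G] [hp : Fact (Nat.Prime 5)]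
  {P : Sylow 5 G} {u a : G} {H : Subgroup G} [Fintype H] [Fintype (P : Subgroup G)]
  {D : Setting P u a H} [Fintype (D.aut (H12.oneIrr H))]
  {χ : IrrCharacter G} {θ : IrrCharacter H} {ψ : (P : Subgroup G) →* ℂˣ}
  (h : Neg D 2 3 χ θ ψ) {M : Ideal AlgInt} [M.IsPrime] (hM : IsPModular 5 M)
include h hM

/-- The quotient by the centre. -/
theorem quot_cases (hgen : Subgroup.closure {g : G | g ^ 5 = 1} = ⊤) :
    Nonempty ((G ⧸ Subgroup.center G) ≃* Matrix.ProjectiveSpecialLinearGroup (Fin 2) (ZMod 5)) ∨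
      Nonempty ((G ⧸ Subgroup.center G) ≃* ↥(alternatingGroup (Fin 6))) := by
  classical
  have hft : 2 * 2 + 1 = 5 := rfl
  by_cases hex : ∃ i : IrrCharacter G, H12.degree (i : G → ℂ) = 2
  · obtain ⟨i, hi⟩ := hex
    exact Or.inl (psl_of_small h hft hM hgen i hi)
  obtain ⟨Φ, b, hb, hδ, hbP, hYb, hint, hcase⟩ :=
    block_cases h hft hM (fun i hi => hex ⟨i, hi⟩) hgen
  have hl1 := one_mem_lab (p := 5) hft
  have hlm := neg_one_mem (p := 5) hft
  set Z := Subgroup.center G with hZ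
  set π := QuotientGroup.mk' Z with hπ
  have hπs : Function.Surjective π := QuotientGroup.mk'_surjective Z
  have hHZ : H = Z := h.center_eq
  haveI : Fintype (G ⧸ Z) := Fintype.ofFinite _
  obtain ⟨j, hj1, hj⟩ := exists_j h hft
  have hcardX : Nat.card (G ⧸ Z) = 10 * (1 + j * 5) := by
    rw [← Subgroup.index_eq_card, ← hHZ, index_eq h hft, hj]
  have hYsupp : ∀ A ∈ lab (p := 5) 2, Φ.Y A ∈ D.supp (H12.oneIrr H) := fun A hA =>
    (Φ.mem_supp _).2 (Or.inr ⟨A, hA, rfl⟩)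
  have hdefl : ∀ i : IrrCharacter G, i ∈ D.supp (H12.oneIrr H) →
      ∃ i' : IrrCharacter (G ⧸ Z), (∀ g : G, (i' : G ⧸ Z → ℂ) (π g) = (i : G → ℂ) g) ∧
        H12.degree (i' : G ⧸ Z → ℂ) = H12.degree (i : G → ℂ) := by
    intro i hi
    obtain ⟨i', hi'⟩ := H24.exists_deflate Z i fun z hz => H24.mem_kerChar.2 (by
      have h1 := apply_center D h.central_le hM hi ⟨z, hHZ ▸ hz⟩
      rw [H12.oneIrr_apply, one_mul] at h1
      rw [H12.irr_apply_one]
      exact h1)
    have e : ∀ g : G, (i' : G ⧸ Z → ℂ) (π g) = (i : G → ℂ) g := fun g => by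
      rw [← hi']; rfl
    refine ⟨i', e, ?_⟩
    have h1 := e 1
    rw [map_one, H12.irr_apply_one, H12.irr_apply_one] at h1
    exact_mod_cast h1
  have hkill : ∀ w : G, w ∈ H → w ^ 5 = 1 → w = 1 := fun w hw h1 => by
    rcases (Nat.dvd_prime hp.out).1 (orderOf_dvd_of_pow_eq_one h1) with h2 | h2
    · exact orderOf_eq_one_iff.1 h2
    · exact absurd (h2 ▸ dvd_rfl) (D.not_dvd_orderOf hw)
  have hreglift : ∀ g : G, ¬ 5 ∣ orderOf (π g) → ¬ 5 ∣ orderOf g := by
    intro g hg hd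
    have hmem : g ^ orderOf (π g) ∈ H := by
      rw [hHZ]
      refine (QuotientGroup.eq_one_iff _).1 ?_
      show π (g ^ orderOf (π g)) = 1
      rw [map_pow, pow_orderOf_eq_one]
    have h1 : orderOf g ∣ orderOf (π g) * orderOf (g ^ orderOf (π g)) :=
      orderOf_dvd_of_pow_eq_one (by rw [pow_mul, pow_orderOf_eq_one])
    exact ((Nat.Prime.dvd_mul hp.out).1 (hd.trans h1)).elim hg (D.not_dvd_orderOf hmem)
  have hnotH : ∀ g : G, π g ≠ 1 → g ∉ H := fun g hg hH =>
    hg ((QuotientGroup.eq_one_iff g).2 (hHZ ▸ hH))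
  set P' := P.mapSurjective hπs with hP'
  have hP'c : (P' : Subgroup (G ⧸ Z)) = (P : Subgroup G).map π := rfl
  have hxp : ∀ x ∈ (P : Subgroup G), x ^ 5 = 1 := fun x hx => H62.pow_card_of_mem D.hP hx
  have hPcard : Nat.card (P' : Subgroup (G ⧸ Z)) = 5 := by
    show Nat.card ((P : Subgroup G).map π : Subgroup (G ⧸ Z)) = 5
    refine Eq.trans ?_ D.hP
    refine (Nat.card_congr (Equiv.ofBijective
      (fun x : ↥(P : Subgroup G) => (⟨π x, x, x.2, rfl⟩ : ↥((P : Subgroup G).map π)))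
      ⟨fun x y hxy => ?_, ?_⟩)).symm
    · have h1 : π x = π y := congrArg Subtype.val hxy
      have h2 : (x : G)⁻¹ * y ∈ H := hHZ ▸ (QuotientGroup.eq.1 h1)
      have h3 := hkill _ h2 (hxp _ (mul_mem (inv_mem x.2) y.2))
      exact Subtype.ext (inv_mul_eq_one.1 h3)
    · rintro ⟨_, x, hx, rfl⟩
      exact ⟨⟨x, hx⟩, rfl⟩
  obtain ⟨b', hb', hdb⟩ := hdefl b hb
  have hb'1 : (b' : G ⧸ Z → ℂ) 1 = ((H12.degree (b : G → ℂ) : ℤ) : ℂ) := by
    rw [H12.irr_apply_one, hdb]; norm_cast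
  rcases hcase with ⟨hd4, hm3⟩ | ⟨hd9, hm8, hbk⟩
  · -- `1, 4, 3, 3`
    left
    refine psl_of_card h hft hgen ?_
    have hPdvd : ∀ k : ℕ, 5 ^ k ∣ Nat.card (G ⧸ Z) → 5 ^ k ∣ 120 := by
      intro k hk
      have h1 := (Nat.Prime.pow_dvd_iff_le_factorization hp.out Nat.card_pos.ne').1 hk
      have h2 := P'.card_eq_multiplicity
      rw [hPcard] at h2
      have h3 : (Nat.card (G ⧸ Z)).factorization 5 = 1 :=
        (Nat.pow_right_injective (le_of_lt (by norm_num : 2 < 5)) ((pow_one 5).trans h2)).symm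
      rw [h3] at h1
      exact (pow_dvd_pow 5 h1).trans (by norm_num)
    have hdvd := card_dvd_of_values (H12.isCharacter_irr b') 5 hPdvd (d := 4)
      (by rw [hb'1, hd4]; norm_num) (Finset.Icc (-1) 3) (by decide +kernel) fun x hx1 hx => by
        obtain ⟨g, rfl⟩ := hπs x
        have hgr := hreglift g hx
        obtain ⟨k, hk⟩ := hint g
        have hlt := norm_Y_lt h hft hM hgen Φ hδ hm3 (hnotH g hx1)
        rw [hYb g hgr, hk, ← Int.cast_one, ← Int.cast_sub, Complex.norm_intCast] at hlt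
        have h2 : |k - 1| < 3 := by exact_mod_cast hlt
        rw [abs_lt] at h2
        exact ⟨k, Finset.mem_Icc.2 ⟨by omega, by omega⟩, by rw [hb', hk]⟩
    rw [hcardX] at hdvd
    have hle := Nat.le_of_dvd (by norm_num) hdvd
    have hj2 : j ≤ 2 := by omega
    rw [hj]
    interval_cases j
    · norm_num
    · norm_num at hdvd
  -- `1, 9, 8, 8`
  right
  obtain ⟨Y', hY', hdY'⟩ := hdefl (Φ.Y 1) (hYsupp 1 hl1)
  obtain ⟨Y'', hY'', hdY''⟩ := hdefl (Φ.Y (-1)) (hYsupp (-1) hlm)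
  have hmod : ∀ (g : G) (x z : G), x ∈ (P : Subgroup G) → z ∈ (P : Subgroup G) →
      π (g * x * g⁻¹) = π z → g * x * g⁻¹ = z := by
    intro g x z hx hz he
    have h2 : z⁻¹ * (g * x * g⁻¹) ∈ H := hHZ ▸ (QuotientGroup.eq.1 he.symm)
    have hcomm : Commute (z⁻¹) (g * x * g⁻¹) := by
      have h3 := Subgroup.mem_center_iff.1 (h.central_le h2) z
      show z⁻¹ * (g * x * g⁻¹) = g * x * g⁻¹ * z⁻¹
      rw [eq_mul_inv_iff_mul_eq, ← h3, mul_inv_cancel_left]
    have h4 := hkill _ h2 (by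
      rw [hcomm.mul_pow, inv_pow, hxp z hz, inv_one, one_mul, conj_pow, hxp x hx, mul_one,
        mul_inv_cancel])
    exact (inv_mul_eq_one.1 h4).symm
  have hC : Subgroup.centralizer ((P' : Subgroup (G ⧸ Z)) : Set (G ⧸ Z)) =
      (P' : Subgroup (G ⧸ Z)) := by
    refine le_antisymm (fun c hc => ?_) fun c hc => ?_
    · obtain ⟨g, rfl⟩ := hπs c
      have hgC : g ∈ Subgroup.centralizer ((P : Subgroup G) : Set G) := by
        intro x hx
        have h1 : π x * π g = π g * π x := hc (π x) ⟨x, hx, rfl⟩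
        have h2 := hmod g x x hx hx (by rw [map_mul, map_mul, map_inv, ← h1, mul_inv_cancel_right])
        exact (mul_inv_eq_iff_eq_mul.1 h2).symm
      obtain ⟨x, hx, k, hk, rfl⟩ := D.exists_mul hgC
      refine ⟨x, hx, ?_⟩
      rw [map_mul]
      have : π k = 1 := (QuotientGroup.eq_one_iff k).2 (hHZ ▸ hk)
      rw [this, mul_one]
    · rw [Subgroup.mem_centralizer_iff]
      intro y hy
      haveI : IsCyclic (P' : Subgroup (G ⧸ Z)) := isCyclic_of_prime_card hPcard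
      letI := IsCyclic.commGroup (α := (P' : Subgroup (G ⧸ Z)))
      exact congrArg Subtype.val (mul_comm (⟨y, hy⟩ : (P' : Subgroup (G ⧸ Z))) ⟨c, hc⟩)
  have hnorm : (Subgroup.normalizer ((P' : Subgroup (G ⧸ Z)) : Set (G ⧸ Z))).comap π =
      Subgroup.normalizer ((P : Subgroup G) : Set G) := by
    refine le_antisymm (fun g hg => ?_) fun g hg => ?_
    · rw [Subgroup.mem_comap] at hg
      have h1 : π g * π u * (π g)⁻¹ ∈ (P' : Subgroup (G ⧸ Z)) :=
        (Subgroup.mem_normalizer_iff.1 hg (π u)).1 ⟨u, D.u_mem, rfl⟩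
      obtain ⟨z, hz, hze⟩ := h1
      have h2 := hmod g u z D.u_mem hz (by rw [map_mul, map_mul, map_inv, hze])
      exact D.mem_normalizer D.u_mem D.u_ne_one hz h2
    · rw [Subgroup.mem_comap]
      refine Subgroup.mem_normalizer_iff.2 fun y => ⟨?_, ?_⟩
      · rintro ⟨x, hx, rfl⟩
        exact ⟨g * x * g⁻¹, (Subgroup.mem_normalizer_iff.1 hg x).1 hx, by simp⟩
      · rintro ⟨x, hx, hxy⟩
        refine ⟨g⁻¹ * x * g, (Subgroup.mem_normalizer_iff''.1 hg x).1 hx, ?_⟩
        rw [map_mul, map_mul, map_inv, hxy]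
        group
  have hN : Nat.card (Subgroup.normalizer ((P' : Subgroup (G ⧸ Z)) : Set (G ⧸ Z))) = 10 := by
    have h1 := (Subgroup.normalizer ((P' : Subgroup (G ⧸ Z)) : Set (G ⧸ Z))).card_mul_index
    have e : (Subgroup.normalizer ((P : Subgroup G) : Set G)).index = 1 + j * 5 :=
      P.card_eq_index_normalizer.symm.trans hj
    rw [← Subgroup.index_comap_of_surjective _ hπs, hnorm, hcardX, e] at h1
    exact Nat.eq_of_mul_eq_mul_right (by omega) h1
  set u₁ : (P : Subgroup G) := ⟨u, D.u_mem⟩ with hu₁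
  have hu : u₁ ≠ 1 := fun h' => D.u_ne_one (congrArg Subtype.val h')
  have hbP' : ∀ y ∈ (P' : Subgroup (G ⧸ Z)), y ≠ 1 → (b' : G ⧸ Z → ℂ) y = -1 := by
    rintro _ ⟨x, hx, rfl⟩ hy1
    rw [hb']
    exact hbP ⟨x, hx⟩ fun h' => hy1 (by
      rw [show x = 1 from congrArg Subtype.val h', map_one])
  have hπu : π u ≠ 1 := fun h' => D.u_ne_one
    (hkill u (hHZ ▸ (QuotientGroup.eq_one_iff u).1 h') (hxp u D.u_mem))
  have hreal : ∀ A ∈ lab (p := 5) 2, conj ((Φ.Y A : G → ℂ) u) = (Φ.Y A : G → ℂ) u := by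
    intro A hA
    rw [show (Φ.Y A : G → ℂ) u = _ from Fam.valY' h hft Φ hA u₁ hu, map_mul, map_intCast,
      conj_per D.hP hft, show ((-1 : ZMod 5) ^ 2) = 1 by norm_num, one_mul]
  have hYne : Y' ≠ Y'' := fun he => neg_one_ne hft (Φ.injY (-1) hlm 1 hl1 (Subtype.ext (funext
    fun g => by rw [← hY' g, ← hY'' g, he])))
  have hsq : (Y' : G ⧸ Z → ℂ) (π u) * (Y' : G ⧸ Z → ℂ) (π u) +
      (Y'' : G ⧸ Z → ℂ) (π u) * (Y'' : G ⧸ Z → ℂ) (π u) = 3 := by
    rw [hY', hY'']
    conv_lhs =>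
      arg 1; arg 2
      rw [← hreal 1 hl1]
    conv_lhs =>
      arg 2; arg 2
      rw [← hreal (-1) hlm]
    rw [show (Φ.Y 1 : G → ℂ) u = _ from Fam.valY' h hft Φ hl1 u₁ hu,
      show (Φ.Y (-1) : G → ℂ) u = _ from Fam.valY' h hft Φ hlm u₁ hu, hδ]
    have h3 := per_sq_add h hft u₁ hu
    push_cast at h3 ⊢
    rw [map_mul, map_mul, map_neg, map_one]
    linear_combination h3
  have hg360 : Nat.card (G ⧸ Z) = 360 := by
    refine order_three_sixty hPcard hC hN b' Y' Y'' (by rw [hdb, hd9]) (by rw [hdY', hm8])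
      (by rw [hdY'', Fam.degree_Y_eq h hft Φ hlm, hm8]) hYne hbP'
      (y := π u) ⟨u, D.u_mem, rfl⟩ hπu hsq (by rw [hY']; exact hreal 1 hl1)
      (by rw [hY'']; exact hreal (-1) hlm) (fun x hx1 hx => ?_) (by rw [hcardX]; omega)
    obtain ⟨g, rfl⟩ := hπs x
    have hgr := hreglift g hx
    obtain ⟨k, h0, h8, hk⟩ := hbk g hgr (hnotH g hx1)
    exact ⟨k, h0, h8, by rw [hb', hk], by rw [hY', hYb g hgr, hk],
      by rw [hY'', Φ.regY (-1) hlm g hgr, hYb g hgr, hk]⟩
  haveI : Nontrivial (G ⧸ Z) := Finite.one_lt_card_iff_nontrivial.1 (by rw [hg360]; norm_num)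
  haveI : IsSimpleGroup (G ⧸ Z) := ⟨fun K hK => by
    haveI := hK
    by_cases huK : u ∈ K.comap π
    · right
      have htop : K.comap π = ⊤ := by
        refine top_le_iff.1 (hgen ▸ (Subgroup.closure_le _).2 fun g hg => ?_)
        by_cases hg1 : g = 1
        · rw [hg1]; exact one_mem _
        obtain ⟨z, hz, hconj⟩ := H20.FreeSylow.exists_isConj_mem (P := P) (y := g)
          ⟨1, by rw [orderOf_eq_prime hg hg1, pow_one]⟩
        obtain ⟨t, ht⟩ := isConj_iff.1 hconj.symm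
        rw [← ht]
        refine (inferInstance : (K.comap π).Normal).conj_mem z ?_ t
        obtain ⟨k, hk⟩ := zpowers_top D.hP hu (⟨z, hz⟩ : (P : Subgroup G))
        rw [show z = ((⟨z, hz⟩ : (P : Subgroup G)) : G) from rfl, ← hk]
        push_cast
        exact zpow_mem huK k
      exact Subgroup.comap_injective hπs (htop.trans (Subgroup.comap_top π).symm)
    · left
      refine (Subgroup.eq_bot_iff_forall K).2 fun x hx => ?_
      obtain ⟨g, rfl⟩ := hπs x
      have hgH : g ∈ H := normal_le h hft hM hgen (K.comap π) huK hx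
      exact (QuotientGroup.eq_one_iff g).2 (hHZ ▸ hgH)⟩
  exact H65.alternating_six_of_card hg360

end H85.SmallPrime
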