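import Cfsg.Agent.H85.SmallPrime.Moment
import Cfsg.Agent.H85.SmallPrime.Local

/-!
Small primes (helper85): the order `360` from the principal block `1, 9, 8, 8` at five.
-/

set_option autoImplicit false
set_option linter.style.haveILetI false
set_option linter.unusedSectionVars false

open Cfsg Subgroup
open scoped ComplexConjugate

namespace H85.SmallPrime

universe u

theorem six_candidates_fin : ∀ c : Fin 254,
    ¬ (45 * ((c : ℕ) * c) % 8 = 0 ∧ 362880 % (45 * ((c : ℕ) * c) / 8) = 0 ∧
      (45 * ((c : ℕ) * c) / 8) % 50 = 10 ∧ (45 * ((c : ℕ) * c) / 8) % (c : ℕ) = 0) ∨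
      ((c : ℕ) = 8 ∨ (c : ℕ) = 32 ∨ (c : ℕ) = 48) := by decide +kernel

theorem six_candidates (c : ℕ) (hc : c < 254) (h1 : 45 * (c * c) % 8 = 0)
    (h2 : 362880 % (45 * (c * c) / 8) = 0) (h3 : (45 * (c * c) / 8) % 50 = 10)
    (h4 : (45 * (c * c) / 8) % c = 0) : c = 8 ∨ c = 32 ∨ c = 48 :=
  (six_candidates_fin ⟨c, hc⟩).resolve_left (not_not_intro ⟨h1, h2, h3, h4⟩)

variable {X : Type u} [Group X] [Fintype X] [Fact (Nat.Prime 5)] {P : Sylow 5 X}

/-- The order of a group with principal block degrees `1, 9, 8, 8` at five. -/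
theorem order_three_sixty (hP : Nat.card (P : Subgroup X) = 5)
    (hC : centralizer ((P : Subgroup X) : Set X) = (P : Subgroup X))
    (hN : Nat.card (normalizer ((P : Subgroup X) : Set X)) = 10)
    (a Y Y' : IrrCharacter X) (hda : H12.degree (a : X → ℂ) = 9)
    (hdY : H12.degree (Y : X → ℂ) = 8) (hdY' : H12.degree (Y' : X → ℂ) = 8) (hYne : Y ≠ Y')
    (haP : ∀ y ∈ (P : Subgroup X), y ≠ 1 → (a : X → ℂ) y = -1)
    {y : X} (hy : y ∈ (P : Subgroup X)) (hy1 : y ≠ 1)
    (hsq : (Y : X → ℂ) y * (Y : X → ℂ) y + (Y' : X → ℂ) y * (Y' : X → ℂ) y = 3)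
    (hre : conj ((Y : X → ℂ) y) = (Y : X → ℂ) y) (hre' : conj ((Y' : X → ℂ) y) = (Y' : X → ℂ) y)
    (hreg : ∀ x : X, x ≠ 1 → ¬ 5 ∣ orderOf x → ∃ k : ℤ, 0 ≤ k ∧ k ≤ 8 ∧ (a : X → ℂ) x = (k : ℂ) ∧
      (Y : X → ℂ) x = (k : ℂ) - 1 ∧ (Y' : X → ℂ) x = (k : ℂ) - 1)
    (hmod : Nat.card X % 50 = 10) : Nat.card X = 360 := by
  classical
  set g := Nat.card X with hg
  have hd1 : H12.degree (H12.oneIrr X : X → ℂ) = 1 := by
    have h1 := H12.irr_apply_one (H12.oneIrr X)
    rw [H12.oneIrr_apply] at h1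
    exact_mod_cast h1.symm
  have hne_deg : ∀ {i j : IrrCharacter X}, H12.degree (i : X → ℂ) ≠ H12.degree (j : X → ℂ) → i ≠ j :=
    fun h e => h (congrArg (fun i : IrrCharacter X => H12.degree (i : X → ℂ)) e)
  have n1a : H12.oneIrr X ≠ a := hne_deg (by omega)
  have n1Y : H12.oneIrr X ≠ Y := hne_deg (by omega)
  have n1Y' : H12.oneIrr X ≠ Y' := hne_deg (by omega)
  have naY : a ≠ Y := hne_deg (by omega)
  have naY' : a ≠ Y' := hne_deg (by omega)
  set S : Finset (IrrCharacter X) := {H12.oneIrr X, a, Y, Y'} with hS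
  have hsumS : ∀ F : IrrCharacter X → ℂ, ∑ i ∈ S, F i = F (H12.oneIrr X) + F a + F Y + F Y' := by
    intro F
    rw [hS, Finset.sum_insert (by simp [n1a, n1Y, n1Y']), Finset.sum_insert (by simp [naY, naY']),
      Finset.sum_pair hYne]
    ring
  have hcard5 : Nat.card (centralizer ({y} : Set X)) = 5 := by
    rw [H62.centralizer_eq_of_mem hP hC hy hy1]; exact hP
  have hvan : ∀ i : IrrCharacter X, i ∉ S → (i : X → ℂ) y = 0 := by
    have h1 := H12.column_orthogonality y y
    rw [if_pos (IsConj.refl y), hcard5, ← Finset.sum_sdiff (Finset.subset_univ S), hsumS,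
      H12.oneIrr_apply, map_one, haP y hy hy1, map_neg, map_one, hre, hre'] at h1
    have h2 : ((∑ i ∈ Finset.univ \ S, Complex.normSq ((i : X → ℂ) y) : ℝ) : ℂ) = 0 := by
      push_cast
      simp only [← Complex.mul_conj]
      linear_combination h1 - hsq
    have h3 := (Finset.sum_eq_zero_iff_of_nonneg fun i _ => Complex.normSq_nonneg _).1
      (Complex.ofReal_eq_zero.1 h2)
    intro i hi
    exact Complex.normSq_eq_zero.1 (h3 i (Finset.mem_sdiff.2 ⟨Finset.mem_univ _, hi⟩))
  have hfour : ∀ F : IrrCharacter X → ℂ, (∀ i : IrrCharacter X, (i : X → ℂ) y = 0 → F i = 0) →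
      ∑ i, F i = F (H12.oneIrr X) + F a + F Y + F Y' := fun F hF => by
    rw [← hsumS]
    exact (Finset.sum_subset (Finset.subset_univ S) fun i _ hi => hF i (hvan i hi)).symm
  have hone : ∀ i : IrrCharacter X, (i : X → ℂ) 1 = (H12.degree (i : X → ℂ) : ℂ) := H12.irr_apply_one
  -- the involution
  obtain ⟨t, ht, hti, -, hcl, hy2⟩ := exists_involution hP hC hN
  have htr : ¬ 5 ∣ orderOf t := by rw [ht]; norm_num
  have ht1 : t ≠ 1 := fun h => by rw [h, orderOf_one] at ht; omega
  obtain ⟨v, hv0, -, hav, hYv, hY'v⟩ := hreg t ht1 htr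
  have hv1 : v = 1 := value_at_involution hP hC hN (H12.isCharacter_irr a) hcl haP
    (by rw [hone, hda]; norm_num) hav hv0
  subst hv1
  set c := Nat.card (centralizer ({t} : Set X)) with hc
  have hrel : 45 * (c * c) = 8 * g := by
    have h1 := H62.card_product_class_eq_sum y t t
    rw [H62.card_product_class hP hC (by norm_num) ht hti hy hy1, ← hc, hfour _ (fun i hi => by
      rw [hi]; simp)] at h1
    simp only [hone, hd1, hda, hdY, hdY', H12.oneIrr_apply, haP y hy hy1, hav, hYv, hY'v,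
      Int.cast_one, sub_self, map_one, map_zero, mul_zero, zero_div, add_zero, ← hg] at h1
    have : ((45 * (c * c) : ℕ) : ℂ) = ((8 * g : ℕ) : ℂ) := by
      push_cast at h1 ⊢
      linear_combination 9 * h1
    exact_mod_cast this
  -- the values
  have hval : ∀ x : X, ∃ k : ℤ, (a : X → ℂ) x = (k : ℂ) := by
    intro x
    by_cases hx1 : x = 1
    · exact ⟨9, by rw [hx1, hone, hda]; norm_num⟩
    by_cases hx : 5 ∣ orderOf x
    · obtain ⟨z, hz, hz1, hconj⟩ := exists_conj_mem hP hC hx
      exact ⟨-1, by rw [H12.IsClassFunction.of_isConj (H12.irr_isClassFunction a) hconj,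
        haP z hz hz1]; norm_num⟩
    · obtain ⟨k, -, -, hk, -⟩ := hreg x hx1 hx
      exact ⟨k, hk⟩
  choose κ hκ using hval
  have henergy : ∑ x : X, κ x * (κ x - 1) = (g : ℤ) := by
    have h1 := H12.sum_mul_conj_eq_card_mul (a : X → ℂ) (a : X → ℂ)
    have h2 := H12.sum_mul_conj_eq_card_mul (a : X → ℂ) (H12.oneIrr X : X → ℂ)
    rw [H12.classInner_irr_self] at h1
    rw [H12.classInner_irr_ne n1a.symm] at h2
    simp only [hκ, map_intCast, H12.oneIrr_apply, map_one, mul_one, mul_zero] at h1 h2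
    have : ((∑ x : X, κ x * (κ x - 1) : ℤ) : ℂ) = ((g : ℤ) : ℂ) := by
      push_cast
      simp only [mul_sub, mul_one, Finset.sum_sub_distrib]
      rw [h1, h2, hg]
      simp
    exact_mod_cast this
  -- the bound at a regular element
  have hexcl : ∀ w : X, w ≠ 1 → ¬ 5 ∣ orderOf w → ∀ k : ℤ, (a : X → ℂ) w = (k : ℂ) →
      ∃ L D : ℕ, D ∣ g ∧ (360 * L * D : ℤ) = g * (9 + 7 * k) ∧
        5 * (k * (k - 1)) * g + (360 + 4 * g) * D ≤ 5 * g * D := by
    intro w hw1 hw k hk
    obtain ⟨k', -, -, hk', hYk, hY'k⟩ := hreg w hw1 hw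
    obtain rfl : k' = k := Int.cast_injective (α := ℂ) (hk'.symm.trans hk)
    obtain ⟨L, hL⟩ := centralizer_dvd hP hC hy hw1 hw
    set D := Nat.card (centralizer ({w} : Set X)) with hD
    refine ⟨L, D, card_subgroup_dvd_card _, ?_, ?_⟩
    · rw [hfour _ (fun i hi => by rw [hi]; simp)] at hL
      simp only [hone, hd1, hda, hdY, hdY', H12.oneIrr_apply, haP y hy hy1, hk, hYk, hY'k,
        map_one, map_sub, map_intCast, ← hg] at hL
      apply Int.cast_injective (α := ℂ)
      push_cast at hL ⊢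
      linear_combination (72 / 5 : ℂ) * hL + (9 / 5 : ℂ) * (g : ℂ) * ((k' : ℂ) - 1) * hsq
    · set K : X → Finset X := fun z => {x : X | IsConj z x} with hK
      have hKc : ∀ z : X, (K z).card * Nat.card (centralizer ({z} : Set X)) = g := fun z =>
        H12.card_conjClass_mul_card_centralizer z
      have hKmem : ∀ z x : X, x ∈ K z ↔ IsConj z x := fun z x => by simp [hK]
      have hy21 : y ^ 2 ≠ 1 := fun h => by
        have h1 := orderOf_dvd_of_pow_eq_one h
        rw [orderOf_eq_prime (H62.pow_card_of_mem hP hy) hy1] at h1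
        norm_num at h1
      have hKy : (K y).card * 5 = g := by rw [← hcard5]; exact hKc y
      have hKy2 : (K (y ^ 2)).card * 5 = g := by
        have h1 := hKc (y ^ 2)
        rwa [H62.centralizer_eq_of_mem hP hC (pow_mem hy 2) hy21, hP] at h1
      have hKw : (K w).card * D = g := hKc w
      have hKy5 : ∀ z ∈ (P : Subgroup X), z ≠ 1 → ∀ x ∈ K z, κ x = -1 ∧ 5 ∣ orderOf x := by
        intro z hz hz1 x hx
        rw [hKmem] at hx
        constructor
        · apply Int.cast_injective (α := ℂ)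
          rw [← hκ, H12.IsClassFunction.of_isConj (H12.irr_isClassFunction a) hx.symm, haP z hz hz1]
          norm_num
        · obtain ⟨b, rfl⟩ := isConj_iff.1 hx
          rw [show orderOf (b * z * b⁻¹) = orderOf z from
            orderOf_injective (MulAut.conj b).toMonoidHom (MulAut.conj b).injective z,
            orderOf_eq_prime (H62.pow_card_of_mem hP hz) hz1]
      have hKww : ∀ x ∈ K w, κ x = k' ∧ ¬ 5 ∣ orderOf x := by
        intro x hx
        rw [hKmem] at hx
        constructor
        · apply Int.cast_injective (α := ℂ)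
          rw [← hκ, H12.IsClassFunction.of_isConj (H12.irr_isClassFunction a) hx.symm, hk]
        · obtain ⟨b, rfl⟩ := isConj_iff.1 hx
          rwa [show orderOf (b * w * b⁻¹) = orderOf w from
            orderOf_injective (MulAut.conj b).toMonoidHom (MulAut.conj b).injective w]
      have d1 : Disjoint (K y) (K (y ^ 2)) := Finset.disjoint_left.2 fun x h1 h2 =>
        hy2 y hy hy1 (((hKmem _ _).1 h1).trans ((hKmem _ _).1 h2).symm)
      have d2 : Disjoint (K y ∪ K (y ^ 2)) (K w) := Finset.disjoint_left.2 fun x h1 h2 =>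
        (hKww x h2).2 ((Finset.mem_union.1 h1).elim (fun h => (hKy5 y hy hy1 x h).2)
          fun h => (hKy5 _ (pow_mem hy 2) hy21 x h).2)
      have h1not : (1 : X) ∉ K y ∪ K (y ^ 2) ∪ K w := by
        simp only [Finset.mem_union, hKmem, isConj_one_left, not_or]
        exact ⟨⟨hy1, hy21⟩, hw1⟩
      have hκ1 : κ 1 = 9 := by
        apply Int.cast_injective (α := ℂ)
        rw [← hκ, hone, hda]
        norm_num
      have hle : ∑ x ∈ insert 1 (K y ∪ K (y ^ 2) ∪ K w), κ x * (κ x - 1) ≤ (g : ℤ) := by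
        rw [← henergy]
        refine Finset.sum_le_sum_of_subset_of_nonneg (Finset.subset_univ _) fun x _ _ => ?_
        rcases le_or_gt (κ x) 0 with h | h
        · exact mul_nonneg_of_nonpos_of_nonpos h (by omega)
        · exact mul_nonneg h.le (by omega)
      rw [Finset.sum_insert h1not, Finset.sum_union d2, Finset.sum_union d1,
        Finset.sum_congr rfl (s₁ := K y) (g := fun _ => (2 : ℤ)) (fun x hx => by
          rw [(hKy5 y hy hy1 x hx).1]; norm_num),
        Finset.sum_congr rfl (s₁ := K (y ^ 2)) (g := fun _ => (2 : ℤ)) (fun x hx => by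
          rw [(hKy5 _ (pow_mem hy 2) hy21 x hx).1]; norm_num),
        Finset.sum_congr rfl (s₁ := K w) (g := fun _ => k' * (k' - 1)) (fun x hx => by
          rw [(hKww x hx).1]), Finset.sum_const, Finset.sum_const, Finset.sum_const, hκ1] at hle
      simp only [nsmul_eq_mul] at hle
      have hD0 : (0 : ℤ) ≤ (D : ℤ) := Int.natCast_nonneg _
      have e1 : ((K y).card : ℤ) * 5 = g := by exact_mod_cast hKy
      have e2 : ((K (y ^ 2)).card : ℤ) * 5 = g := by exact_mod_cast hKy2
      have e3 : ((K w).card : ℤ) * D = g := by exact_mod_cast hKw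
      have m1 : ((K y).card : ℤ) * 5 * D = g * D := by rw [e1]
      have m2 : ((K (y ^ 2)).card : ℤ) * 5 * D = g * D := by rw [e2]
      have m3 : ((K w).card : ℤ) * D * (k' * (k' - 1)) = g * (k' * (k' - 1)) := by rw [e3]
      nlinarith [mul_le_mul_of_nonneg_right hle hD0, m1, m2, m3]
  -- the order divides `9!`
  have hPdvd : ∀ k : ℕ, 5 ^ k ∣ g → 5 ^ k ∣ 362880 := by
    intro k hk
    have h1 := (Nat.Prime.pow_dvd_iff_le_factorization (by norm_num) Nat.card_pos.ne').1 hk
    have h2 := P.card_eq_multiplicity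
    rw [hP] at h2
    have h3 : (Nat.card X).factorization 5 = 1 :=
      (Nat.pow_right_injective (le_of_lt (by norm_num : 2 < 5)) ((pow_one 5).trans h2)).symm
    rw [h3] at h1
    exact (pow_dvd_pow 5 h1).trans (by norm_num)
  have hdvd : g ∣ 362880 := card_dvd_of_values (H12.isCharacter_irr a) 5 hPdvd (d := 9)
    (by rw [hone, hda]; norm_num) (Finset.Icc 0 8) (by decide +kernel) fun x hx1 hx => by
      obtain ⟨k, h0, h8, hk, -⟩ := hreg x hx1 hx
      exact ⟨k, Finset.mem_Icc.2 ⟨h0, h8⟩, hk⟩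
  have hgle : g ≤ 362880 := Nat.le_of_dvd (by norm_num) hdvd
  have hclt : c < 254 := by nlinarith
  have hg' : 45 * (c * c) / 8 = g := by omega
  rcases six_candidates c hclt (by omega)
    (by rw [hg']; exact Nat.mod_eq_zero_of_dvd hdvd) (by rw [hg']; exact hmod)
    (by rw [hg']; exact Nat.mod_eq_zero_of_dvd (card_subgroup_dvd_card _)) with h | h | h
  · rw [h] at hrel; omega
  · -- `g = 5760`
    exfalso
    have hg5 : g = 5760 := by rw [h] at hrel; omega
    haveI : Fact (Nat.Prime 2) := ⟨by norm_num⟩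
    obtain ⟨T, hT⟩ := Sylow.exists_subgroup_card_pow_prime 2 (G := X) (n := 7)
      (by rw [← hg, hg5]; norm_num)
    have h1 := card_dvd_prod (H12.isCharacter_irr a) T (d := 9) (by rw [hone, hda]; norm_num)
      ((Finset.Icc 0 8).erase 7) fun x hx hx1 => by
        have hxr : ¬ 5 ∣ orderOf x := fun h5 => by
          have h2 : orderOf x ∣ 2 ^ 7 := by
            have := orderOf_dvd_natCard (⟨x, hx⟩ : T)
            rwa [Subgroup.orderOf_mk, hT] at this
          exact absurd (h5.trans h2) (by norm_num)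
        obtain ⟨k, h0, h8, hk, -⟩ := hreg x hx1 hxr
        refine ⟨k, Finset.mem_erase.2 ⟨fun h7 => ?_, Finset.mem_Icc.2 ⟨h0, h8⟩⟩, hk⟩
        obtain ⟨L, D, hDg, hLD, hineq⟩ := hexcl x hx1 hxr k hk
        rw [h7, hg5] at hLD hineq
        norm_num at hineq
        have h3 : L * D = 928 := by
          have : (L : ℤ) * D = 928 := by push_cast at hLD; linarith
          exact_mod_cast this
        have h4 : D ∣ 32 := by
          have := Nat.dvd_gcd (hg5 ▸ hDg : D ∣ 5760) (Dvd.intro_left L h3)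
          norm_num at this
          exact this
        have := Nat.le_of_dvd (by norm_num) h4
        omega
    rw [hT] at h1
    revert h1
    decide +kernel
  · -- `g = 12960`
    exfalso
    have hg5 : g = 12960 := by rw [h] at hrel; omega
    haveI : Fact (Nat.Prime 3) := ⟨by norm_num⟩
    obtain ⟨T, hT⟩ := Sylow.exists_subgroup_card_pow_prime 3 (G := X) (n := 4)
      (by rw [← hg, hg5]; norm_num)
    have h1 := card_dvd_prod (H12.isCharacter_irr a) T (d := 9) (by rw [hone, hda]; norm_num)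
      ((Finset.Icc 0 8).erase 6) fun x hx hx1 => by
        have hxr : ¬ 5 ∣ orderOf x := fun h5 => by
          have h2 : orderOf x ∣ 3 ^ 4 := by
            have := orderOf_dvd_natCard (⟨x, hx⟩ : T)
            rwa [Subgroup.orderOf_mk, hT] at this
          exact absurd (h5.trans h2) (by norm_num)
        obtain ⟨k, h0, h8, hk, -⟩ := hreg x hx1 hxr
        refine ⟨k, Finset.mem_erase.2 ⟨fun h6 => ?_, Finset.mem_Icc.2 ⟨h0, h8⟩⟩, hk⟩
        obtain ⟨L, D, hDg, hLD, hineq⟩ := hexcl x hx1 hxr k hk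
        rw [h6, hg5] at hLD hineq
        norm_num at hineq
        have h3 : L * D = 1836 := by
          have : (L : ℤ) * D = 1836 := by push_cast at hLD; linarith
          exact_mod_cast this
        have h4 : D ∣ 108 := by
          have := Nat.dvd_gcd (hg5 ▸ hDg : D ∣ 12960) (Dvd.intro_left L h3)
          norm_num at this
          exact this
        have := Nat.le_of_dvd (by norm_num) h4
        omega
    rw [hT] at h1
    revert h1
    decide +kernel

end H85.SmallPrime
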